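import Cfsg.Agent.Lib.LocalEvenB.MinIndexSp.Empty

/-!
The case that the quadratic functions of minus type occur twice: the transvections fixing a point
would span a totally isotropic subspace invariant under the stabiliser, which has too many images.
-/

set_option autoImplicit false

namespace CfsgLib.LocalEvenB.MinIndexSp

open LinearMap (BilinForm)
open CfsgLib.Classical (Symp.Sp)

variable {V : Type*} [AddCommGroup V] [Module (ZMod 2) V] {B : BilinForm (ZMod 2) V}
  (hA : B.IsAlt) [Finite V] (hB : B.Nondegenerate) {k : ℕ}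
  (hfr : Module.finrank (ZMod 2) V = 2 * (k + 1))
  {Ω : Type*} [MulAction (Symp.Sp B) Ω] [Finite Ω] [MulAction.IsPretransitive (Symp.Sp B) Ω]

omit [Finite Ω] [MulAction.IsPretransitive (Symp.Sp B) Ω] [Finite V] in
theorem fix_T_smul (g : Symp.Sp B) (v : V) (ω : Ω) :
    T hA ((g : V ≃ₗ[ZMod 2] V) v) • g • ω = g • ω ↔ T hA v • ω = ω := by
  rw [← mul_smul, ← mul_T, mul_smul, smul_left_cancel_iff]

theorem card_fixing_congr (ω ω' : Ω) :
    Nat.card {v : V // T hA v • ω' = ω'} = Nat.card {v : V // T hA v • ω = ω} := by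
  obtain ⟨g, rfl⟩ := MulAction.exists_smul_eq (Symp.Sp B) ω ω'
  exact (Nat.card_congr ((g : V ≃ₗ[ZMod 2] V).toEquiv.subtypeEquiv fun v =>
    (fix_T_smul hA g v ω).symm)).symm

include hA hfr in
/-- Few transvections fix a given point. -/
theorem card_fixing_lt (hk : 2 ≤ k)
    (hfew : ∀ v : V, v ≠ 0 → Nat.card {x : Ω // T hA v • x = x} < 2 ^ k)
    (hN0 : 4 * Mm k ≤ Nat.card Ω) (ω : Ω) :
    Nat.card {v : V // T hA v • ω = ω} ≤ 2 ^ (2 * k + 1) := by
  classical
  have : Fintype V := Fintype.ofFinite V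
  have : Fintype Ω := Fintype.ofFinite Ω
  have hsum := sum_card_swap (α := Ω) (β := V) (fun x v => T hA v • x = x)
  rw [Finset.sum_congr rfl fun x _ => card_fixing_congr hA ω x, Finset.sum_const, smul_eq_mul,
    Finset.card_univ, ← Nat.card_eq_fintype_card, Fintype.sum_eq_add_sum_compl (0 : V)] at hsum
  have hle : ∑ v ∈ ({0} : Finset V)ᶜ, Nat.card {x : Ω // T hA v • x = x} ≤
      ({0} : Finset V)ᶜ.card * 2 ^ k := by
    rw [← smul_eq_mul]
    exact Finset.sum_le_card_nsmul _ _ _ fun v hv => (hfew v (by simpa using hv)).le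
  have h0 : Nat.card {x : Ω // T hA (0 : V) • x = x} = Nat.card Ω :=
    Nat.card_congr (Equiv.subtypeUnivEquiv fun x => by rw [T_zero, one_smul])
  rw [Finset.card_compl, Finset.card_singleton, ← Nat.card_eq_fintype_card (α := V),
    natCard_eq hfr] at hle
  by_contra hlt
  push Not at hlt
  have hq : 4 ≤ 2 ^ k := by
    calc 4 = 2 ^ 2 := rfl
      _ ≤ _ := Nat.pow_le_pow_right (by norm_num) hk
  have hMm : 4 * Mm k = 2 * 2 ^ k * (2 ^ k - 1) := by
    have : 2 ^ k = 2 * 2 ^ (k - 1) := by rw [← pow_succ', Nat.sub_add_cancel (by omega)]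
    rw [Mm, ← mul_assoc, show 4 * 2 ^ (k - 1) = 2 * 2 ^ k by omega]
  have h4 : (4 : ℕ) ^ (k + 1) = 4 * (2 ^ k * 2 ^ k) := by
    rw [pow_succ', ← mul_pow]
    norm_num
  rw [h4] at hle
  rw [hMm] at hN0
  rw [show 2 ^ (2 * k + 1) = 2 * (2 ^ k * 2 ^ k) by rw [pow_succ', two_mul k, pow_add]] at hlt
  rw [h0] at hsum
  generalize 2 ^ k = q at *
  generalize Nat.card {v : V // T hA v • ω = ω} = s at *
  generalize ∑ v ∈ ({0} : Finset V)ᶜ, Nat.card {x : Ω // T hA v • x = x} = S at *
  generalize Nat.card Ω = N at *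
  obtain ⟨r, rfl⟩ : ∃ r, q = r + 4 := ⟨q - 4, by omega⟩
  rw [show r + 4 - 1 = r + 3 by omega] at hN0
  have h5 : N * (2 * ((r + 4) * (r + 4)) + 1) ≤ N * s := Nat.mul_le_mul_left _ (by omega)
  have h6 : S ≤ 4 * ((r + 4) * (r + 4)) * (r + 4) :=
    hle.trans (Nat.mul_le_mul_right _ (Nat.sub_le _ _))
  have h7 : 2 * (r + 4) * (r + 3) * ((r + 4) * (r + 4)) ≤ N * ((r + 4) * (r + 4)) :=
    Nat.mul_le_mul_right _ hN0
  nlinarith

include hA hB hfr in
theorem false_of_double (hk : 2 ≤ k) (hΩ : 1 < Nat.card Ω) (hN : Nat.card Ω < Mm (k + 1))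
    (hshort : ∀ (v : V) (ω : Ω), v ≠ 0 → Short hA v ω)
    (hfew : ∀ v : V, v ≠ 0 → Nat.card {x : Ω // T hA v • x = x} < 2 ^ k)
    (hN0 : 4 * Mm k ≤ Nat.card Ω) : False := by
  have : FiniteDimensional (ZMod 2) V := Module.Finite.of_finite
  obtain ⟨ω⟩ := (Nat.card_pos_iff.1 (by omega : 0 < Nat.card Ω)).1
  obtain ⟨v, hv, hvω⟩ := exists_fixed_transvection hA hB hfr hk (fun v ω hω =>
    hshort v ω fun h0 => hω (by rw [h0, T_zero, one_smul])) ω
  have hee : ∀ {v : V}, v ≠ 0 → T hA v • ω = ω → ∀ {w : V}, B v w = 0 → ee hA v w • ω = ω := by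
    intro v hv hvω w hw
    rcases hshort v ω hv w hw with h | h
    · exact h
    · rw [h, hvω]
  -- the fixing transvections are pairwise commuting
  have horth : ∀ a b : V, T hA a • ω = ω → T hA b • ω = ω → B a b = 0 := by
    intro a b ha hb
    by_contra hab
    rw [← ne_eq, zmod_ne_zero_iff] at hab
    have ha0 : a ≠ 0 := Classical.Symp.ne_zero_of_apply_ne_zero (B := B) (v := b)
      (by rw [hab]; exact one_ne_zero)
    have hall : ∀ x : V, B a x = 1 → T hA x • ω = ω := by
      intro x hx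
      have hd : B a (x + b) = 0 := by rw [map_add, hx, hab, CharTwo.add_self_eq_zero]
      have he := hee ha0 ha hd
      have hb' : T hA ((ee hA a (x + b) : V ≃ₗ[ZMod 2] V) b) • ω = ω := by
        have := (fix_T_smul hA (ee hA a (x + b)) b ω).2 hb
        rwa [he] at this
      rw [ee_apply hA hd, bil_comm hA a b, hab, one_smul, add_comm x b, add_add_cancel_vec] at hb'
      rcases zmod_two_cases (B b (b + x)) with e | e
      · rw [e, zero_smul, add_zero] at hb'
        exact hb'
      · rw [e, one_smul] at hb'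
        have h2 := (fix_T_smul hA (T hA a) (x + a) ω).2 hb'
        rw [ha, T_apply, map_add, LinearMap.add_apply, bil_comm hA a x, hx, hA a, add_zero,
          one_smul, add_assoc, add_self_vec, add_zero] at h2
        exact h2
    have hsub : Nat.card {x : V // B a x = 1} < Nat.card {x : V // T hA x • ω = ω} := by
      have h := Set.ncard_lt_ncard (s := {x : V | B a x = 1}) (t := {x : V | T hA x • ω = ω})
        ((Set.ssubset_iff_of_subset fun x hx => hall x hx).2
          ⟨a, ha, fun h => one_ne_zero (h.symm.trans (hA a))⟩) (Set.toFinite _)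
      rwa [← Nat.card_coe_set_eq, ← Nat.card_coe_set_eq] at h
    have hfib : Nat.card {x : V // B a x = 1} = 2 ^ (2 * k + 1) := by
      rw [Classical.Symp.card_fibre_linear (B a) (fun h => ha0 (hB.1 a fun y => by rw [h]; rfl)) 1,
        Nat.card_zmod, hfr]
      congr 1
    have := card_fixing_lt hA hfr hk hfew hN0 ω
    omega
  let L : Submodule (ZMod 2) V :=
    { carrier := {x | T hA x • ω = ω}
      zero_mem' := by show T hA (0 : V) • ω = ω; rw [T_zero, one_smul]
      add_mem' := fun {a b} ha hb => by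
        show T hA (a + b) • ω = ω
        rcases eq_or_ne a 0 with rfl | ha0
        · rwa [zero_add]
        have h := hee ha0 ha (horth a b ha hb)
        rw [ee, mul_smul, mul_smul] at h
        have h2 : T hA (a + b) • ω = T hA b • T hA a • ω := by
          conv_rhs => rw [← h]
          rw [← mul_smul (T hA a), T_mul_self, one_smul, ← mul_smul (T hA b) (T hA b),
            T_mul_self, one_smul]
        rw [h2, ha, hb]
      smul_mem' := fun c x hx => by
        show T hA (c • x) • ω = ω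
        rcases zmod_two_cases c with rfl | rfl
        · rw [zero_smul, T_zero, one_smul]
        · rwa [one_smul] }
  have hstab : ∀ g : Symp.Sp B, g • ω = ω → ∀ x ∈ L, (g : V ≃ₗ[ZMod 2] V) x ∈ L := by
    intro g hg x hx
    show T hA _ • ω = ω
    have := (fix_T_smul hA g x ω).2 hx
    rwa [hg] at this
  have hdim : Module.finrank (ZMod 2) L ≤ k + 1 := by
    have hle : L ≤ B.orthogonal L := fun x hx =>
      LinearMap.BilinForm.mem_orthogonal_iff.2 fun y hy => horth y x hy hx
    have h1 := Submodule.finrank_mono hle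
    rw [LinearMap.BilinForm.finrank_orthogonal hB] at h1
    omega
  by_cases hL : ∃ w ∈ L, w ∉ Submodule.span (ZMod 2) {v}
  · obtain ⟨w, hw, hwv⟩ := hL
    have hwv' : ∀ c : ZMod 2, c • v ≠ w := fun c h =>
      hwv (h ▸ Submodule.smul_mem _ _ (Submodule.mem_span_singleton_self v))
    have hp : (![w, v] : Fin 2 → V) ∈ Classical.Symp.isoTuples B 2 := by
      refine ⟨linearIndependent_fin2.2 ⟨hv, fun c => by simpa using hwv' c⟩, fun i j => ?_⟩
      refine horth _ _ ?_ ?_
      · fin_cases i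
        exacts [hw, hvω]
      · fin_cases j
        exacts [hw, hvω]
    have hex : ∀ p : Classical.Symp.isoTuples B 2,
        ∃ g : Symp.Sp B, ∀ i, (g : V ≃ₗ[ZMod 2] V) (![w, v] i) = (p : Fin 2 → V) i :=
      fun p => Classical.Symp.exists_map_isoTuples hA hB hp p.2
    choose f hf using hex
    have hr : ∀ x : Ω, ∃ g : Symp.Sp B, g • ω = x := fun x => MulAction.exists_smul_eq _ ω x
    choose r hr using hr
    have hmem : ∀ (p : Classical.Symp.isoTuples B 2) (i : Fin 2),
        ((r (f p • ω))⁻¹ : Symp.Sp B).1 ((p : Fin 2 → V) i) ∈ L := fun p i => by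
      rw [← hf p i]
      refine hstab ((r (f p • ω))⁻¹ * f p) ?_ _ ?_
      · rw [mul_smul]
        exact inv_smul_eq_iff.2 (hr _).symm
      · fin_cases i
        exacts [hw, hvω]
    have hcount : Nat.card (Classical.Symp.isoTuples B 2) ≤
        Nat.card (Ω × (Fin 2 → L)) := by
      refine Nat.card_le_card_of_injective
        (fun p => (f p • ω, fun i => ⟨_, hmem p i⟩)) fun a b e => ?_
      obtain ⟨e1, e2⟩ := Prod.ext_iff.1 e
      simp only at e1 e2
      refine Subtype.ext (funext fun i => ?_)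
      have h3 := congrArg Subtype.val (congrFun e2 i)
      simp only at h3
      rw [e1] at h3
      exact ((r (f b • ω))⁻¹ : Symp.Sp B).1.injective h3
    have hiso := Classical.Symp.card_isoTuples hA hB hfr (show 2 ≤ k + 1 by omega)
    obtain ⟨j, rfl⟩ : ∃ j, k = j + 2 := ⟨k - 2, by omega⟩
    rw [Nat.card_zmod, show j + 2 + 1 - 2 = j + 1 by omega, show 2 * (2 - 1) / 2 = 1 from rfl,
      pow_one] at hiso
    simp only [Classical.Symp.ordProd, Finset.prod_range_succ _ (j + 2),
      Finset.prod_range_succ _ (j + 1)] at hiso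
    rw [show (2 : ℕ) * ((∏ i ∈ Finset.range (j + 1), (2 ^ (2 * (i + 1)) - 1)) *
        (2 ^ (2 * (j + 1 + 1)) - 1) * (2 ^ (2 * (j + 2 + 1)) - 1)) =
      2 * (2 ^ (2 * (j + 1 + 1)) - 1) * (2 ^ (2 * (j + 2 + 1)) - 1) *
        ∏ i ∈ Finset.range (j + 1), (2 ^ (2 * (i + 1)) - 1) by ring] at hiso
    have hpos : 0 < ∏ i ∈ Finset.range (j + 1), (2 ^ (2 * (i + 1)) - 1) :=
      Classical.Symp.ordProd_pos le_rfl (j + 1)
    rw [Nat.eq_of_mul_eq_mul_right hpos hiso, Nat.card_prod, Nat.card_fun, Nat.card_fin,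
      Module.natCard_eq_pow_finrank (K := ZMod 2) (V := L), Nat.card_zmod] at hcount
    have hLle : (2 ^ Module.finrank (ZMod 2) L) ^ 2 ≤ (2 ^ (j + 2 + 1)) ^ 2 :=
      Nat.pow_le_pow_left (Nat.pow_le_pow_right (by norm_num) hdim) 2
    have hcount' := hcount.trans (Nat.mul_le_mul_left _ hLle)
    rw [Mm, Nat.add_sub_cancel] at hN
    have hq : 4 ≤ 2 ^ (j + 2) := by
      calc 4 = 2 ^ 2 := rfl
        _ ≤ _ := Nat.pow_le_pow_right (by norm_num) (by omega)
    rw [show 2 * (j + 1 + 1) = (j + 2) + (j + 2) by ring,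
      show 2 * (j + 2 + 1) = (j + 2 + 1) + (j + 2 + 1) by ring, pow_add, pow_add 2 (j + 2 + 1),
      pow_succ' 2 (j + 2)] at hcount'
    rw [pow_succ' 2 (j + 2)] at hN
    generalize 2 ^ (j + 2) = q at *
    generalize Nat.card Ω = N at *
    obtain ⟨t, rfl⟩ : ∃ t, q = t + 4 := ⟨q - 4, by omega⟩
    rw [show 2 * (t + 4) - 1 = 2 * t + 7 by omega] at hN
    rw [show (t + 4) * (t + 4) - 1 = t * t + 8 * t + 15 by
        rw [show (t + 4) * (t + 4) = t * t + 8 * t + 16 by ring]; omega,
      show 2 * (t + 4) * (2 * (t + 4)) - 1 = 4 * t * t + 32 * t + 63 by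
        rw [show 2 * (t + 4) * (2 * (t + 4)) = 4 * t * t + 32 * t + 64 by ring]; omega] at hcount'
    have h8 : (N + 1) * (2 * (t + 4)) ^ 2 ≤ (t + 4) * (2 * t + 7) * (2 * (t + 4)) ^ 2 :=
      Nat.mul_le_mul_right _ hN
    nlinarith
  · push Not at hL
    have hfixv : ∀ g : Symp.Sp B, g • ω = ω → (g : V ≃ₗ[ZMod 2] V) v = v := by
      intro g hg
      obtain ⟨c, hc⟩ := Submodule.mem_span_singleton.1 (hL _ (hstab g hg v hvω))
      rcases zmod_two_cases c with rfl | rfl
      · exact absurd (hc.symm.trans (zero_smul _ _))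
          (fun h => hv ((g : V ≃ₗ[ZMod 2] V).map_eq_zero_iff.1 h))
      · rw [one_smul] at hc; exact hc.symm
    have := le_card_of_stab_fix_vec hA hB hfr hv hfixv
    rw [Mm, Nat.add_sub_cancel] at hN
    have h4 : (4 : ℕ) ^ (k + 1) = 4 * (2 ^ k * 2 ^ k) := by rw [pow_succ', ← mul_pow]; norm_num
    rw [h4] at this
    rw [pow_succ' 2 k] at hN
    have h2 : 1 ≤ 2 ^ k := Nat.one_le_two_pow
    generalize 2 ^ k = q at *
    obtain ⟨r, rfl⟩ : ∃ r, q = r + 1 := ⟨q - 1, by omega⟩
    rw [show 2 * (r + 1) - 1 = 2 * r + 1 by omega] at hN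
    have : (r + 1) * (2 * r + 1) + 1 ≤ 4 * ((r + 1) * (r + 1)) := by nlinarith
    omega

end CfsgLib.LocalEvenB.MinIndexSp
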