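import Cfsg.Agent.Lib.LocalEvenB.MinIndexSp.Setting

/-!
If the radicals move every point as little as possible then every point is fixed by a transvection,
and the bound for a point stabiliser fixing a vector.
-/

set_option autoImplicit false

namespace CfsgLib.LocalEvenB.MinIndexSp

open LinearMap (BilinForm)
open CfsgLib.Classical (Symp.Sp)

variable {V : Type*} [AddCommGroup V] [Module (ZMod 2) V] {B : BilinForm (ZMod 2) V}
  (hA : B.IsAlt) [Finite V] (hB : B.Nondegenerate) {k : ℕ}
  (hfr : Module.finrank (ZMod 2) V = 2 * (k + 1))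
  {Ω : Type*} [MulAction (Symp.Sp B) Ω]

include hA hB hfr in
theorem exists_fixed_transvection (hk : 2 ≤ k)
    (hshort : ∀ (v : V) (ω : Ω), T hA v • ω ≠ ω → Short hA v ω) (ω : Ω) :
    ∃ v : V, v ≠ 0 ∧ T hA v • ω = ω := by
  have : FiniteDimensional (ZMod 2) V := Module.Finite.of_finite
  by_contra hne
  push Not at hne
  have : Nontrivial V := Module.nontrivial_of_finrank_pos (R := ZMod 2) (by omega)
  obtain ⟨v, hv⟩ := exists_ne (0 : V)
  obtain ⟨u, huv⟩ := exists_partner_left hA hB hv
  have hWn := restrict_nondeg hA hB huv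
  have hWA : (B.restrict (compl B u v)).IsAlt := restrict_isAlt hA _
  have hWd := finrank_compl hA hB hfr huv
  -- the radical at `v` on the complement
  have hperp : ∀ w : compl B u v, B v w = 0 := fun w => (mem_compl.1 w.2).2
  have hmul : ∀ a b : compl B u v, B (a : V) b = 0 →
      ee hA v a * ee hA v b = ee hA v ((a + b : compl B u v) : V) := fun a b hab => by
    have := (heis hA u v).e_mul a b
    rw [show (B.restrict (compl B u v)) a b = 0 from hab, ZMod.val_zero, pow_zero, one_mul] at this
    exact this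
  have hte : ∀ w : compl B u v, T hA v * ee hA v w = ee hA v w * T hA v := (heis hA u v).t_e
  have hnotv : ∀ w : compl B u v, v + (w : V) ≠ 0 := fun w h0 => by
    have h2 := congrArg (B u) h0
    rw [map_add, huv, (mem_compl.1 w.2).1, add_zero, map_zero] at h2
    exact one_ne_zero h2
  -- one element of the radical that moves the point
  obtain ⟨w₁, hw₁⟩ : ∃ w : compl B u v, ee hA v w • ω = T hA v • ω := by
    by_contra hall
    push Not at hall
    have hfix : ∀ w : compl B u v, ee hA v w • ω = ω := fun w =>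
      (hshort v ω (hne v hv) w (hperp w)).resolve_right (hall w)
    have : Nontrivial (compl B u v) := Module.nontrivial_of_finrank_pos (R := ZMod 2) (by omega)
    obtain ⟨a, ha⟩ := exists_ne (0 : compl B u v)
    obtain ⟨b, -, hab⟩ := Classical.Symp.exists_partner (Classical.Symp.nondeg_top hWn)
      (Submodule.mem_top (x := a)) ha
    have := (heis hA u v).e_mul a b
    rw [hab, ZMod.val_one, pow_one] at this
    have h2 : (ee hA v a * ee hA v b) • ω =
        (T hA v * ee hA v ((a + b : compl B u v) : V)) • ω := congrArg (· • ω) this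
    rw [mul_smul, mul_smul, hfix, hfix, hfix] at h2
    exact hne v hv h2.symm
  have hw₁0 : (w₁ : V) ≠ 0 := by
    intro h0
    rw [h0, ee, T_zero, mul_one, add_zero, T_mul_self, one_smul] at hw₁
    exact hne v hv hw₁.symm
  -- a second one orthogonal to the first
  obtain ⟨w₂, hw₂, h12, hw₂0, hw12⟩ : ∃ w : compl B u v, ee hA v w • ω = T hA v • ω ∧
      B (w₁ : V) w = 0 ∧ (w : V) ≠ 0 ∧ (w₁ : V) + w ≠ 0 := by
    obtain ⟨z, -, hz⟩ := Classical.Symp.exists_partner (Classical.Symp.nondeg_top hWn)
      (Submodule.mem_top (x := w₁)) (fun h0 => hw₁0 (by rw [h0]; rfl))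
    have hd := finrank_compl (V := compl B u v) hWA hWn (k := k - 1) (by omega) hz
    have : Nontrivial (compl (B.restrict (compl B u v)) w₁ z) :=
      Module.nontrivial_of_finrank_pos (R := ZMod 2) (by omega)
    obtain ⟨⟨w, hw⟩, hw0⟩ := exists_ne (0 : compl (B.restrict (compl B u v)) w₁ z)
    obtain ⟨hw1, hw2⟩ := mem_compl.1 hw
    have hwne : w ≠ 0 := fun h0 => hw0 (Subtype.ext h0)
    have hne1 : w + w₁ ≠ 0 := fun h0 => by
      have h2 := congrArg (B.restrict (compl B u v) z) h0
      rw [map_add, hw2, zero_add, map_zero, bil_comm hWA w₁ z, hz] at h2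
      exact one_ne_zero h2
    rcases hshort v ω (hne v hv) w (hperp w) with hc | hc
    · refine ⟨w + w₁, ?_, ?_, fun h0 => hne1 (Subtype.ext h0), ?_⟩
      · rw [← hmul w w₁ ((bil_comm hA (w₁ : V) w).trans hw1), mul_smul, hw₁, ← mul_smul, ← hte,
          mul_smul, hc]
      · rw [Submodule.coe_add, map_add, show B (w₁ : V) w = 0 from hw1, hA (w₁ : V), add_zero]
      · rw [Submodule.coe_add, add_comm (w : V), add_add_cancel_vec]
        exact fun h0 => hwne (Subtype.ext h0)
    · exact ⟨w, hc, hw1, fun h0 => hwne (Subtype.ext h0), fun h0 => hne1 (Subtype.ext (by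
        rw [Submodule.coe_add, add_comm]; exact h0))⟩
  have heq : ∀ w : compl B u v, (w : V) ≠ 0 → ee hA v w • ω = T hA v • ω →
      T hA (w : V) • ω = T hA v • ω := by
    intro w hw0 hw
    have hwv : B (w : V) v = 0 := (bil_comm hA v (w : V)).trans (hperp w)
    have h := hshort w ω (hne _ hw0) v hwv
    rw [← ee_symm hA hwv, hw] at h
    exact (h.resolve_left (hne v hv)).symm
  have t1 := heq w₁ hw₁0 hw₁
  have t2 := heq w₂ hw₂0 hw₂
  -- the transvection along the sum
  have ts : T hA ((w₁ : V) + w₂) • ω = T hA v • ω := by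
    have hsum : ee hA (w₁ : V) w₂ • ω = T hA ((w₁ : V) + w₂) • ω := by
      have hc1 : B (w₁ : V) ((w₁ : V) + w₂) = 0 := by rw [map_add, hA (w₁ : V), h12, add_zero]
      have hc2 : B (w₂ : V) ((w₁ : V) + w₂) = 0 := by
        rw [map_add, hA (w₂ : V), bil_comm hA (w₁ : V) (w₂ : V), h12, add_zero]
      rw [ee, mul_assoc, commute_T hA hc2, ← mul_assoc, commute_T hA hc1, mul_assoc, mul_smul,
        mul_smul, t2, ← t1, ← mul_smul (T hA (w₁ : V)), T_mul_self, one_smul]
    rcases hshort w₁ ω (hne _ hw₁0) w₂ h12 with hc | hc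
    · exact absurd (hsum ▸ hc) (hne _ hw12)
    · rw [← hsum, hc, t1]
  have hs : B v ((w₁ : V) + w₂) = 0 := by rw [map_add, hperp, hperp, add_zero]
  have h3 : ee hA v ((w₁ : V) + w₂) • ω = ω := by
    rw [← Submodule.coe_add, ← hmul w₁ w₂ h12, mul_smul, hw₂, ← mul_smul, ← hte, mul_smul, hw₁,
      ← mul_smul, T_mul_self, one_smul]
  have hv' : B v (v + ((w₁ : V) + w₂)) = 0 := by rw [map_add, hA v, hs, add_zero]
  have hs' : B ((w₁ : V) + w₂) (v + ((w₁ : V) + w₂)) = 0 := by
    rw [map_add, hA ((w₁ : V) + w₂), bil_comm hA v ((w₁ : V) + w₂), hs, add_zero]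
  rw [ee, mul_assoc, commute_T hA hs', ← mul_assoc, commute_T hA hv', mul_assoc, mul_smul,
    mul_smul, ts, ← mul_smul (T hA v), T_mul_self, one_smul] at h3
  exact hne _ (by rw [← Submodule.coe_add]; exact hnotv _) h3

variable [Finite Ω] [MulAction.IsPretransitive (Symp.Sp B) Ω]

include hA hB in
theorem exists_moved_transvection (hΩ : 1 < Nat.card Ω) (ω : Ω) :
    ∃ v : V, v ≠ 0 ∧ T hA v • ω ≠ ω := by
  have : FiniteDimensional (ZMod 2) V := Module.Finite.of_finite
  by_contra hall
  push Not at hall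
  have hfix : ∀ g : Symp.Sp B, g • ω = ω := by
    intro g
    have hg : g ∈ Classical.Symp.trGroup hA (⊤ : Submodule (ZMod 2) V) := by
      rw [Classical.Symp.trGroup_eq_top hA hB]; trivial
    rw [Classical.Symp.trGroup] at hg
    induction hg using Subgroup.closure_induction with
    | mem y hy =>
      obtain ⟨w, -, c, rfl⟩ := hy
      rcases zmod_two_cases c with rfl | rfl
      · rw [Classical.Symp.tr_zero, one_smul]
      · rcases eq_or_ne w 0 with rfl | hw
        · show T hA (0 : V) • ω = ω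
          rw [T_zero, one_smul]
        · exact hall w hw
    | one => exact one_smul _ _
    | mul a b _ _ ha hb => rw [mul_smul, hb, ha]
    | inv a _ ha => exact inv_smul_eq_iff.2 ha.symm
  have : Subsingleton Ω := ⟨fun a b => by
    obtain ⟨g, rfl⟩ := MulAction.exists_smul_eq (Symp.Sp B) ω a
    obtain ⟨g', rfl⟩ := MulAction.exists_smul_eq (Symp.Sp B) ω b
    rw [hfix, hfix]⟩
  have := Finite.card_le_one_iff_subsingleton.2 this
  omega

include hA hB hfr in
/-- If the stabiliser of a point fixes a nonzero vector then the orbit of that vector is a lower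
bound for the number of points. -/
theorem le_card_of_stab_fix_vec {ω : Ω} {c : V} (hc : c ≠ 0)
    (hfix : ∀ g : Symp.Sp B, g • ω = ω → (g : V ≃ₗ[ZMod 2] V) c = c) :
    4 ^ (k + 1) - 1 ≤ Nat.card Ω := by
  have : FiniteDimensional (ZMod 2) V := Module.Finite.of_finite
  have hcard : Nat.card {x : V // x ≠ 0} = 4 ^ (k + 1) - 1 := by
    rw [Classical.Symp.natCard_ne_zero_eq (F := ZMod 2), Nat.card_zmod, hfr, pow_mul]
    norm_num
  rw [← hcard]
  have hex : ∀ y : {x : V // x ≠ 0}, ∃ g : Symp.Sp B, (g : V ≃ₗ[ZMod 2] V) c = y.1 := fun y => by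
    obtain ⟨g, -, hg⟩ := Classical.Symp.sp_transitive_ne_zero hA hB hc y.2
    exact ⟨g, hg⟩
  choose f hf using hex
  refine Nat.card_le_card_of_injective (fun y => f y • ω) fun a b e => Subtype.ext ?_
  have h1 := hfix ((f b)⁻¹ * f a) (by rw [mul_smul]; exact inv_smul_eq_iff.2 e)
  rw [Subgroup.coe_mul, LinearEquiv.mul_apply, hf, Subgroup.coe_inv, LinearEquiv.coe_inv,
    LinearEquiv.symm_apply_eq, hf] at h1
  exact h1

end CfsgLib.LocalEvenB.MinIndexSp
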