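import Cfsg.Agent.Lib.LocalEvenB.MinIndexSp.QF
import Mathlib.GroupTheory.GroupAction.Defs

/-!
Actions of the radical `2 ^ (1 + 2k)` of a point stabiliser of `Sp (2k + 2, 2)`: the orbits, the
characters trivial on point stabilisers, and what a small number of points forces.
-/

set_option autoImplicit false

namespace CfsgLib.LocalEvenB.MinIndexSp

open LinearMap (BilinForm)

variable {W : Type*} [AddCommGroup W] [Module (ZMod 2) W] {B : BilinForm (ZMod 2) W}

/-- Elements behaving like the transvection along a vector, the radical of its stabiliser and the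
transvections along vectors of a complement. -/
structure Heis (G : Type*) [Group G] (B : BilinForm (ZMod 2) W) where
  /-- The central element. -/
  t : G
  /-- The lifts of the vectors. -/
  e : W → G
  /-- The transvections normalising the group. -/
  tau : W → G
  t_mul_t : t * t = 1
  t_e : ∀ w, t * e w = e w * t
  e_mul : ∀ a b, e a * e b = t ^ (B a b).val * e (a + b)
  tau_t : ∀ z, tau z * t = t * tau z
  tau_e : ∀ z w, tau z * e w = e (w + B w z • z) * tau z
  tau_tau : ∀ z, tau z * tau z = 1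

namespace Heis

variable {G : Type*} [Group G] (h : Heis G B) (hA : B.IsAlt)

/-- The general element of the radical. -/
def el (p : ZMod 2 × W) : G := h.t ^ p.1.val * h.e p.2

/-- The multiplication of the radical on parameters. -/
def op (B : BilinForm (ZMod 2) W) (p r : ZMod 2 × W) : ZMod 2 × W :=
  (p.1 + r.1 + B p.2 r.2, p.2 + r.2)

theorem t_pow_add (c d : ZMod 2) : h.t ^ c.val * h.t ^ d.val = h.t ^ (c + d).val := by
  rcases zmod_two_cases c with rfl | rfl <;> rcases zmod_two_cases d with rfl | rfl <;>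
    simp [ZMod.val_one, CharTwo.add_self_eq_zero, h.t_mul_t]

theorem el_mul (p r : ZMod 2 × W) : h.el p * h.el r = h.el (op B p r) := by
  obtain ⟨c, a⟩ := p
  obtain ⟨d, b⟩ := r
  have hcomm : h.e a * h.t ^ d.val = h.t ^ d.val * h.e a :=
    (Commute.pow_right (show Commute (h.e a) h.t from (h.t_e a).symm) _).eq
  simp only [el, op]
  rw [mul_assoc (h.t ^ c.val), ← mul_assoc (h.e a), hcomm, mul_assoc (h.t ^ d.val), h.e_mul,
    ← mul_assoc, ← mul_assoc, h.t_pow_add, h.t_pow_add]

theorem el_one_zero : h.el (1, 0) = h.t * h.e 0 := by simp [el, ZMod.val_one]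

include hA in
theorem e_zero : h.e 0 = 1 := by
  have := h.e_mul 0 0
  rw [hA 0, add_zero, ZMod.val_zero, pow_zero, one_mul] at this
  exact mul_eq_left.1 this

include hA in
theorem el_zero : h.el 0 = 1 := by simp [el, h.e_zero hA]

include hA in
theorem el_t : h.el (1, 0) = h.t := by rw [el_one_zero, h.e_zero hA, mul_one]

include hA in
theorem op_self (p : ZMod 2 × W) : op B p p = 0 := by
  simp [op, hA p.2, CharTwo.add_self_eq_zero, add_self_vec]

include hA in
theorem el_self (p : ZMod 2 × W) : h.el p * h.el p = 1 := by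
  rw [el_mul, op_self hA, h.el_zero hA]

include hA in
theorem op_comm (p r : ZMod 2 × W) : op B p r = op B r p := by
  simp [op, add_comm, bil_comm hA p.2 r.2]

theorem op_assoc (p r s : ZMod 2 × W) : op B (op B p r) s = op B p (op B r s) := by
  refine Prod.ext ?_ (add_assoc _ _ _)
  simp only [op, map_add, LinearMap.add_apply]
  ring

include hA in
theorem op_op (p r : ZMod 2 × W) : op B p (op B p r) = r := by
  rw [← op_assoc, op_self hA]
  simp [op]

theorem tau_el (z : W) (p : ZMod 2 × W) :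
    h.tau z * h.el p = h.el (p.1, p.2 + B p.2 z • z) * h.tau z := by
  simp only [el]
  rw [← mul_assoc, (Commute.pow_right (show Commute (h.tau z) h.t from h.tau_t z) _).eq,
    mul_assoc, h.tau_e, ← mul_assoc]

variable {Ω : Type*} [MulAction G Ω]

/-- The orbits of the radical. -/
def rel (ω ω' : Ω) : Prop := ∃ p, h.el p • ω = ω'

/-- The orbits of the radical, as a setoid. -/
@[reducible] def orbSetoid (hA : B.IsAlt) (Ω : Type*) [MulAction G Ω] : Setoid Ω where
  r := h.rel
  iseqv :=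
    { refl := fun ω => ⟨0, by rw [h.el_zero hA, one_smul]⟩
      symm := fun {ω ω'} ⟨p, hp⟩ => ⟨p, by rw [← hp, ← mul_smul, h.el_self hA, one_smul]⟩
      trans := fun {a b c} ⟨p, hp⟩ ⟨r, hr⟩ => ⟨op B r p, by
        rw [← el_mul, mul_smul, hp, hr]⟩ }

/-- The quadratic functions compatible with the stabiliser of a point. -/
def Compat (Q : W → ZMod 2) (ω : Ω) : Prop :=
  IsQF B Q ∧ ∀ p, h.el p • ω = ω → Q p.2 = p.1

/-- The functionals trivial on the stabiliser of a point. -/
def Lin (y : W) (ω : Ω) : Prop := ∀ p, h.el p • ω = ω → B p.2 y = 0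

include hA in
theorem fix_congr {ω ω' : Ω} (hr : h.rel ω ω') (p : ZMod 2 × W) :
    h.el p • ω = ω ↔ h.el p • ω' = ω' := by
  obtain ⟨r, rfl⟩ := hr
  rw [← mul_smul, el_mul, op_comm hA, ← el_mul, mul_smul, smul_left_cancel_iff]

include hA in
theorem moved_congr {ω ω' : Ω} (hr : h.rel ω ω') : h.t • ω = ω ↔ h.t • ω' = ω' := by
  rw [← h.el_t hA]
  exact h.fix_congr hA hr _

include hA in
theorem compat_congr {ω ω' : Ω} (hr : h.rel ω ω') (Q : W → ZMod 2) :
    h.Compat Q ω ↔ h.Compat Q ω' := by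
  simp only [Compat, h.fix_congr hA hr]

include hA in
theorem lin_congr {ω ω' : Ω} (hr : h.rel ω ω') (y : W) : h.Lin y ω ↔ h.Lin y ω' := by
  simp only [Lin, h.fix_congr hA hr]

/-- The projection of a point stabiliser. -/
def L (hA : B.IsAlt) (ω : Ω) : Submodule (ZMod 2) W where
  carrier := {w | ∃ c, h.el (c, w) • ω = ω}
  zero_mem' := ⟨0, by rw [show ((0 : ZMod 2), (0 : W)) = 0 from rfl, h.el_zero hA, one_smul]⟩
  add_mem' := by
    rintro a b ⟨c, hc⟩ ⟨d, hd⟩
    exact ⟨c + d + B a b, by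
      rw [show (c + d + B a b, a + b) = op B (c, a) (d, b) from rfl, ← el_mul, mul_smul, hd, hc]⟩
  smul_mem' := by
    intro r w hw
    rcases zmod_two_cases r with rfl | rfl
    · exact ⟨0, by rw [zero_smul, show ((0 : ZMod 2), (0 : W)) = 0 from rfl, h.el_zero hA, one_smul]⟩
    · simpa using hw

theorem mem_L {ω : Ω} {w : W} : w ∈ h.L hA ω ↔ ∃ c, h.el (c, w) • ω = ω := Iff.rfl

theorem lin_iff {ω : Ω} {y : W} : h.Lin y ω ↔ y ∈ B.orthogonal (h.L hA ω) := by
  rw [LinearMap.BilinForm.mem_orthogonal_iff]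
  exact ⟨fun hy w ⟨c, hc⟩ => hy (c, w) hc, fun hy p hp => hy p.2 ⟨p.1, hp⟩⟩

include hA in
theorem fix_unique {ω : Ω} (hm : h.t • ω ≠ ω) {c d : ZMod 2} {w : W}
    (hc : h.el (c, w) • ω = ω) (hd : h.el (d, w) • ω = ω) : c = d := by
  by_contra hne
  have h1 : c + d = 1 := by
    rcases zmod_two_cases c with rfl | rfl <;> rcases zmod_two_cases d with rfl | rfl <;> simp_all
  apply hm
  rw [← h.el_t hA]
  calc h.el (1, 0) • ω = h.el (op B (c, w) (d, w)) • ω := by
        simp [op, h1, hA w, add_self_vec]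
    _ = ω := by rw [← el_mul, mul_smul, hd, hc]

include hA in
theorem el_fixed {ω : Ω} (hf : h.t • ω = ω) (c : ZMod 2) (w : W) :
    h.el (c, w) • ω = ω ↔ h.e w • ω = ω := by
  rcases zmod_two_cases c with rfl | rfl
  · simp [el]
  · simp [el, ZMod.val_one, mul_smul]
    rw [← mul_smul, h.t_e, mul_smul, hf]

include hA in
theorem exists_compat [Finite W] (hB : B.Nondegenerate) {k : ℕ} (hk : 1 ≤ k)
    (hfr : Module.finrank (ZMod 2) W = 2 * k) {ω : Ω} (hm : h.t • ω ≠ ω) :
    ∃ Q, h.Compat Q ω := by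
  classical
  have : FiniteDimensional (ZMod 2) W := Module.Finite.of_finite
  obtain ⟨Q0, h0, -⟩ := exists_plus hA hB hk hfr
  have hσ : ∀ w : h.L hA ω, ∃ c, h.el (c, (w : W)) • ω = ω := fun w => w.2
  choose σ hσ using hσ
  let d : h.L hA ω →+ ZMod 2 := AddMonoidHom.mk' (fun w => Q0 w + σ w) (fun a b => by
    have : σ (a + b) = σ a + σ b + B (a : W) b :=
      h.fix_unique hA hm (hσ _) (by
        rw [Submodule.coe_add, show (σ a + σ b + B (a : W) b, (a : W) + b) =
          op B (σ a, (a : W)) (σ b, (b : W)) from rfl, ← el_mul, mul_smul, hσ, hσ])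
    show Q0 ((a + b : h.L hA ω) : W) + σ (a + b) = _
    rw [this, Submodule.coe_add, h0]
    have := CharTwo.add_self_eq_zero (B (a : W) b)
    linear_combination this)
  obtain ⟨φ, hφ⟩ := LinearMap.exists_extend (d.toZModLinearMap 2)
  refine ⟨shift B Q0 ((LinearMap.BilinForm.toDual B hB).symm φ), h0.isQF_shift _, fun p hp => ?_⟩
  have hp' : p.2 ∈ h.L hA ω := ⟨p.1, hp⟩
  have h1 : φ p.2 = Q0 p.2 + σ ⟨p.2, hp'⟩ := LinearMap.congr_fun hφ ⟨p.2, hp'⟩
  rw [shift, bil_comm hA _ p.2, LinearMap.BilinForm.apply_toDual_symm_apply, h1,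
    ← add_assoc, CharTwo.add_self_eq_zero, zero_add]
  exact h.fix_unique hA hm (hσ _) hp

theorem compat_shift_iff {Q : W → ZMod 2} {ω : Ω} (hQ : h.Compat Q ω) (y : W) :
    h.Compat (shift B Q y) ω ↔ h.Lin y ω := by
  constructor
  · intro h' p hp
    have := h'.2 p hp
    rwa [shift, hQ.2 p hp, add_eq_left] at this
  · intro hy
    exact ⟨hQ.1.isQF_shift y, fun p hp => by rw [shift, hQ.2 p hp, hy p hp, add_zero]⟩

include hA in
theorem card_compat [Finite W] (hB : B.Nondegenerate) {k : ℕ} (hk : 1 ≤ k)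
    (hfr : Module.finrank (ZMod 2) W = 2 * k) {ω : Ω} (hm : h.t • ω ≠ ω) :
    Nat.card {Q : W → ZMod 2 // h.Compat Q ω} = Nat.card {y : W // h.Lin y ω} := by
  have : FiniteDimensional (ZMod 2) W := Module.Finite.of_finite
  obtain ⟨Q, hQ⟩ := h.exists_compat hA hB hk hfr hm
  refine (Nat.card_congr (Equiv.ofBijective
    (fun y : {y : W // h.Lin y ω} => (⟨shift B Q y, (h.compat_shift_iff hQ y).2 y.2⟩ :
      {Q : W → ZMod 2 // h.Compat Q ω})) ⟨?_, ?_⟩)).symm
  · intro a b e
    exact Subtype.ext (IsQF.shift_injective hA hB (congrArg Subtype.val e))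
  · rintro ⟨Q', h'⟩
    obtain ⟨y, rfl⟩ := IsQF.exists_shift hA hB hQ.1 h'.1
    exact ⟨⟨y, (h.compat_shift_iff hQ y).1 h'⟩, rfl⟩

include hA in
theorem not_compat {Q : W → ZMod 2} {ω : Ω} (hf : h.t • ω = ω) : ¬ h.Compat Q ω := fun hQ => by
  have := hQ.2 (1, 0) (by rw [h.el_t hA, hf])
  rw [hQ.1.map_zero] at this
  exact zero_ne_one this

/-- The orbit of a point times its stabiliser is the radical. -/
theorem card_orbit_mul (hA : B.IsAlt) (ω : Ω) :
    Nat.card {x : Ω // h.rel ω x} * Nat.card {p : ZMod 2 × W // h.el p • ω = ω} =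
      Nat.card (ZMod 2 × W) := by
  rw [← Nat.card_prod]
  let r : {x : Ω // h.rel ω x} → ZMod 2 × W := fun x => x.2.choose
  have hr : ∀ x, h.el (r x) • ω = x.1 := fun x => x.2.choose_spec
  refine Nat.card_congr
    { toFun := fun s => op B (r s.1) s.2.1
      invFun := fun p => (⟨h.el p • ω, p, rfl⟩,
        ⟨op B (r ⟨h.el p • ω, p, rfl⟩) p, by
          rw [← el_mul, mul_smul]
          refine (congrArg (h.el (r ⟨h.el p • ω, p, rfl⟩) • ·)
            (hr ⟨h.el p • ω, p, rfl⟩).symm).trans ?_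
          rw [← mul_smul, h.el_self hA, one_smul]⟩)
      left_inv := fun s => by
        obtain ⟨x, p, hp⟩ := s
        have hx : h.el (op B (r x) p) • ω = x.1 := by rw [← el_mul, mul_smul, hp, hr]
        have hx' : (⟨h.el (op B (r x) p) • ω, op B (r x) p, rfl⟩ : {x : Ω // h.rel ω x}) = x :=
          Subtype.ext hx
        refine Prod.ext hx' (Subtype.ext ?_)
        show op B (r _) (op B (r x) p) = p
        rw [hx', op_op hA]
      right_inv := fun p => op_op hA _ _ }

include hA in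
theorem card_stab_moved {ω : Ω} (hm : h.t • ω ≠ ω) :
    Nat.card {p : ZMod 2 × W // h.el p • ω = ω} = Nat.card (h.L hA ω) :=
  Nat.card_congr (Equiv.ofBijective
    (fun p => (⟨p.1.2, p.1.1, p.2⟩ : h.L hA ω))
    ⟨fun a b e => by
      have e2 : a.1.2 = b.1.2 := congrArg Subtype.val e
      refine Subtype.ext (Prod.ext ?_ e2)
      exact h.fix_unique hA hm (w := a.1.2) a.2 (by rw [e2]; exact b.2),
    fun ⟨w, c, hc⟩ => ⟨⟨(c, w), hc⟩, rfl⟩⟩)

include hA in
theorem card_stab_fixed {ω : Ω} (hf : h.t • ω = ω) :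
    Nat.card {p : ZMod 2 × W // h.el p • ω = ω} = 2 * Nat.card (h.L hA ω) := by
  rw [show 2 * Nat.card (h.L hA ω) = Nat.card (ZMod 2 × h.L hA ω) by
    rw [Nat.card_prod, Nat.card_zmod]]
  refine Nat.card_congr
    { toFun := fun p => (p.1.1, ⟨p.1.2, p.1.1, p.2⟩)
      invFun := fun s => ⟨(s.1, s.2.1), by
        obtain ⟨c, hc⟩ := s.2.2
        exact (h.el_fixed hA hf _ _).2 ((h.el_fixed hA hf c _).1 hc)⟩
      left_inv := fun _ => rfl
      right_inv := fun _ => rfl }

include hA in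
theorem card_L_mul [Finite W] (hB : B.Nondegenerate) (ω : Ω) :
    Nat.card (h.L hA ω) * Nat.card {y : W // h.Lin y ω} = Nat.card W := by
  have : FiniteDimensional (ZMod 2) W := Module.Finite.of_finite
  have e : Nat.card {y : W // h.Lin y ω} = Nat.card (B.orthogonal (h.L hA ω)) :=
    Nat.card_congr (Equiv.subtypeEquivRight fun y => h.lin_iff hA)
  rw [e, Module.natCard_eq_pow_finrank (K := ZMod 2),
    Module.natCard_eq_pow_finrank (K := ZMod 2) (V := B.orthogonal (h.L hA ω)),
    Module.natCard_eq_pow_finrank (K := ZMod 2) (V := W), ← pow_add,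
    LinearMap.BilinForm.finrank_orthogonal hB]
  congr 1
  have := Submodule.finrank_le (h.L hA ω)
  omega

include hA in
theorem card_orbit_moved [Finite W] (hB : B.Nondegenerate) {ω : Ω} (hm : h.t • ω ≠ ω) :
    Nat.card {x : Ω // h.rel ω x} = 2 * Nat.card {y : W // h.Lin y ω} := by
  have h1 := h.card_orbit_mul hA ω
  rw [h.card_stab_moved hA hm, Nat.card_prod, Nat.card_zmod, ← h.card_L_mul hA hB ω,
    show 2 * (Nat.card (h.L hA ω) * Nat.card {y : W // h.Lin y ω}) =
      2 * Nat.card {y : W // h.Lin y ω} * Nat.card (h.L hA ω) by ring] at h1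
  exact Nat.eq_of_mul_eq_mul_right Nat.card_pos h1

include hA in
theorem card_orbit_fixed [Finite W] (hB : B.Nondegenerate) {ω : Ω} (hf : h.t • ω = ω) :
    Nat.card {x : Ω // h.rel ω x} = Nat.card {y : W // h.Lin y ω} := by
  have h1 := h.card_orbit_mul hA ω
  rw [h.card_stab_fixed hA hf, Nat.card_prod, Nat.card_zmod, ← h.card_L_mul hA hB ω,
    show 2 * (Nat.card (h.L hA ω) * Nat.card {y : W // h.Lin y ω}) =
      Nat.card {y : W // h.Lin y ω} * (2 * Nat.card (h.L hA ω)) by ring] at h1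
  exact Nat.eq_of_mul_eq_mul_right (Nat.mul_pos two_pos Nat.card_pos) h1

theorem compat_tau {Q : W → ZMod 2} {ω : Ω} (hQ : h.Compat Q ω) (z : W) :
    h.Compat (trQ B z Q) (h.tau z • ω) := by
  refine ⟨hQ.1.isQF_trQ z, fun p hp => ?_⟩
  rw [← mul_smul] at hp
  have h2 : h.el (p.1, p.2 + B p.2 z • z) • ω = ω := by
    have e : h.el (p.1, p.2 + B p.2 z • z) = h.tau z * h.el p * h.tau z := by
      rw [h.tau_el, mul_assoc, h.tau_tau, mul_one]
    rw [e, mul_assoc, mul_smul, hp, ← mul_smul, h.tau_tau, one_smul]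
  rw [← hQ.1.trQ_eq]
  exact hQ.2 _ h2

theorem lin_tau {y : W} {ω : Ω} (hy : h.Lin y ω) (z : W) :
    h.Lin (y + B z y • z) (h.tau z • ω) := by
  intro p hp
  rw [← mul_smul] at hp
  have h2 : h.el (p.1, p.2 + B p.2 z • z) • ω = ω := by
    have e : h.el (p.1, p.2 + B p.2 z • z) = h.tau z * h.el p * h.tau z := by
      rw [h.tau_el, mul_assoc, h.tau_tau, mul_one]
    rw [e, mul_assoc, mul_smul, hp, ← mul_smul, h.tau_tau, one_smul]
  have := hy _ h2
  simp only [map_add, LinearMap.map_smul, LinearMap.add_apply, LinearMap.smul_apply, smul_eq_mul]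
    at this ⊢
  linear_combination this

theorem rel_tau {ω ω' : Ω} (hr : h.rel ω ω') (z : W) : h.rel (h.tau z • ω) (h.tau z • ω') := by
  obtain ⟨p, rfl⟩ := hr
  exact ⟨(p.1, p.2 + B p.2 z • z), by rw [← mul_smul, ← h.tau_el, mul_smul]⟩

theorem tau_moved {ω : Ω} (hm : h.t • ω ≠ ω) (z : W) : h.t • h.tau z • ω ≠ h.tau z • ω := by
  rw [← mul_smul, ← h.tau_t, mul_smul]
  exact fun e => hm (MulAction.injective _ e)

theorem tau_tau_smul (z : W) (ω : Ω) : h.tau z • h.tau z • ω = ω := by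
  rw [← mul_smul, h.tau_tau, one_smul]

end Heis

end CfsgLib.LocalEvenB.MinIndexSp
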