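import Cfsg.Agent.Lib.LocalEvenB.MinIndexSp.Heis

/-!
An action of the radical of a point stabiliser of `Sp (2k + 2, 2)` on fewer than
`2 ^ k (2 ^ (k + 1) - 1)` points: either one class of quadratic functions occurs once, or the
functions of minus type occur twice and the remaining points are few.
-/

set_option autoImplicit false

namespace CfsgLib.LocalEvenB.MinIndexSp

open LinearMap (BilinForm)

theorem sum_card_swap {α β : Type*} [Fintype α] [Fintype β] (P : α → β → Prop) :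
    ∑ a, Nat.card {b // P a b} = ∑ b, Nat.card {a // P a b} := by
  rw [← Nat.card_sigma, ← Nat.card_sigma]
  exact Nat.card_congr
    { toFun := fun s => ⟨s.2.1, s.1, s.2.2⟩
      invFun := fun s => ⟨s.2.1, s.1, s.2.2⟩
      left_inv := fun _ => rfl
      right_inv := fun _ => rfl }

variable {W : Type*} [AddCommGroup W] [Module (ZMod 2) W] {B : BilinForm (ZMod 2) W}

namespace Heis

variable {G : Type*} [Group G] (h : Heis G B) {Ω : Type*} [MulAction G Ω] (hA : B.IsAlt)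

/-- The set of orbits. -/
abbrev Orb (hA : B.IsAlt) (Ω : Type*) [MulAction G Ω] : Type _ := Quotient (h.orbSetoid hA Ω)

theorem rel_out (ω : Ω) : h.rel (Quotient.mk (h.orbSetoid hA Ω) ω).out ω :=
  Quotient.exact (Quotient.out_eq (Quotient.mk (h.orbSetoid hA Ω) ω))

/-- The number of orbits with which `Q` is compatible. -/
noncomputable def num (Q : W → ZMod 2) (hA : B.IsAlt) (Ω : Type*) [MulAction G Ω] : ℕ :=
  Nat.card {q : h.Orb hA Ω // h.Compat Q q.out}

/-- The number of orbits on whose stabilisers a functional is trivial. -/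
noncomputable def numLin (y : W) (hA : B.IsAlt) (Ω : Type*) [MulAction G Ω] : ℕ :=
  Nat.card {q : h.Orb hA Ω // h.Lin y q.out}

/-- The action of a transvection on the orbits. -/
def tauOrb (z : W) : h.Orb hA Ω → h.Orb hA Ω :=
  Quotient.map (h.tau z • ·) fun _ _ hr => h.rel_tau hr z

theorem tauOrb_tauOrb (z : W) (q : h.Orb hA Ω) : h.tauOrb hA z (h.tauOrb hA z q) = q := by
  induction q using Quotient.ind with
  | _ ω => exact congrArg (Quotient.mk _) (h.tau_tau_smul z ω)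

theorem rel_tauOrb_out (z : W) (q : h.Orb hA Ω) :
    h.rel (h.tauOrb hA z q).out (h.tau z • q.out) := by
  conv => arg 2; rw [← Quotient.out_eq q]
  exact h.rel_out hA _

variable [Finite Ω]

theorem num_le_trQ (Q : W → ZMod 2) (z : W) :
    h.num Q hA Ω ≤ h.num (trQ B z Q) hA Ω :=
  Nat.card_le_card_of_injective
    (fun q => ⟨h.tauOrb hA z q.1,
      (h.compat_congr hA (h.rel_tauOrb_out hA z q.1) _).2 (h.compat_tau q.2 z)⟩)
    fun a b e => Subtype.ext (by
      have := congrArg (fun x => h.tauOrb hA z x.1) e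
      simpa only [tauOrb_tauOrb] using this)

theorem numLin_le_tau (y z : W) : h.numLin y hA Ω ≤ h.numLin (y + B z y • z) hA Ω :=
  Nat.card_le_card_of_injective
    (fun q => ⟨h.tauOrb hA z q.1,
      (h.lin_congr hA (h.rel_tauOrb_out hA z q.1) _).2 (h.lin_tau q.2 z)⟩)
    fun a b e => Subtype.ext (by
      have := congrArg (fun x => h.tauOrb hA z x.1) e
      simpa only [tauOrb_tauOrb] using this)

theorem num_eq_of_zeros [Finite W] (hB : B.Nondegenerate) {k : ℕ} (hk : 1 ≤ k)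
    (hfr : Module.finrank (ZMod 2) W = 2 * k) {Q Q' : W → ZMod 2} (hQ : IsQF B Q) (hQ' : IsQF B Q')
    (hz : zeros Q' = zeros Q) : h.num Q' hA Ω = h.num Q hA Ω := by
  have : FiniteDimensional (ZMod 2) W := Module.Finite.of_finite
  suffices ∀ {Q Q' : W → ZMod 2}, IsQF B Q → IsQF B Q' → zeros Q' = zeros Q →
      h.num Q hA Ω ≤ h.num Q' hA Ω from le_antisymm (this hQ' hQ hz.symm) (this hQ hQ' hz)
  intro Q Q' hQ hQ' hz
  obtain ⟨z, rfl⟩ := IsQF.exists_shift hA hB hQ hQ'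
  rw [← IsQF.trQ_of_zero ((zeros_shift_eq_iff hA hB hk hfr hQ z).1 hz)]
  exact h.num_le_trQ hA Q z

theorem numLin_eq [Finite W] (hB : B.Nondegenerate) {y y' : W} (hy : y ≠ 0) (hy' : y' ≠ 0) :
    h.numLin y hA Ω = h.numLin y' hA Ω := by
  suffices ∀ {y y' : W}, y ≠ 0 → y' ≠ 0 → h.numLin y hA Ω ≤ h.numLin y' hA Ω from
    le_antisymm (this hy hy') (this hy' hy)
  intro y y' hy hy'
  have step : ∀ a b : W, B a b = 1 → h.numLin a hA Ω ≤ h.numLin b hA Ω := fun a b hab => by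
    have := h.numLin_le_tau (Ω := Ω) hA a (a + b)
    rwa [map_add, LinearMap.add_apply, hA a, bil_comm hA a b, hab, zero_add, one_smul,
      add_add_cancel_vec] at this
  by_cases hyy : B y y' = 1
  · exact step y y' hyy
  obtain ⟨a, -, ha⟩ := CfsgLib.Classical.Symp.exists_partner
    (CfsgLib.Classical.Symp.nondeg_top hB) (Submodule.mem_top (x := y)) hy
  obtain ⟨b, -, hb⟩ := CfsgLib.Classical.Symp.exists_partner
    (CfsgLib.Classical.Symp.nondeg_top hB) (Submodule.mem_top (x := y')) hy'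
  obtain ⟨z, -, h1, h2⟩ := CfsgLib.Classical.Symp.exists_apply_ne_zero_both (B := B) (U := ⊤)
    (u := y) (w := y') ⟨a, trivial, by simp [ha]⟩ ⟨b, trivial, by simp [hb]⟩
  refine (step y z ((zmod_ne_zero_iff _).1 h1)).trans (step z y' ?_)
  rw [bil_comm hA y' z]
  exact (zmod_ne_zero_iff _).1 h2

theorem card_invariant [Fintype (h.Orb hA Ω)] (P : Ω → Prop) [DecidablePred P]
    (hP : ∀ {a b : Ω}, h.rel a b → (P a ↔ P b)) :
    Nat.card {x : Ω // P x} =
      ∑ q : h.Orb hA Ω, if P q.out then Nat.card {x : Ω // h.rel q.out x} else 0 := by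
  rw [Nat.card_congr (Equiv.sigmaFiberEquiv
    fun x : {x : Ω // P x} => Quotient.mk (h.orbSetoid hA Ω) x.1).symm, Nat.card_sigma]
  refine Finset.sum_congr rfl fun q _ => ?_
  split_ifs with hq
  · refine Nat.card_congr
      { toFun := fun x => ⟨x.1.1, by
          have := h.rel_out hA x.1.1
          rwa [x.2] at this⟩
        invFun := fun x => ⟨⟨x.1, (hP x.2).1 hq⟩,
          ((Quotient.sound (s := h.orbSetoid hA Ω) x.2).symm.trans (Quotient.out_eq q))⟩
        left_inv := fun _ => rfl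
        right_inv := fun _ => rfl }
  · rw [Nat.card_eq_zero]
    left
    refine ⟨fun x => hq ?_⟩
    have := h.rel_out hA x.1.1
    rw [x.2] at this
    exact (hP this).2 x.1.2

section

variable [Fintype W] (hB : B.Nondegenerate) {k : ℕ} (hfr : Module.finrank (ZMod 2) W = 2 * k)
include hB hfr

theorem card_moved [DecidableEq W] (hk : 1 ≤ k) :
    Nat.card {x : Ω // h.t • x ≠ x} = 2 * ∑ Q : W → ZMod 2, h.num Q hA Ω := by
  classical
  have : Fintype (h.Orb hA Ω) := Fintype.ofFinite _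
  rw [h.card_invariant hA (fun x => h.t • x ≠ x) fun hr => not_congr (h.moved_congr hA hr)]
  simp only [num]
  rw [sum_card_swap, Finset.mul_sum]
  refine Finset.sum_congr rfl fun q _ => ?_
  split_ifs with hq
  · rw [h.card_orbit_moved hA hB hq, h.card_compat hA hB hk hfr hq]
  · push Not at hq
    have : IsEmpty {Q : W → ZMod 2 // h.Compat Q q.out} := ⟨fun Q => h.not_compat hA hq Q.2⟩
    rw [Nat.card_of_isEmpty, mul_zero]

theorem card_lin :
    2 * ∑ y : W, h.numLin y hA Ω = Nat.card Ω + Nat.card {x : Ω // h.t • x = x} := by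
  classical
  have : Fintype (h.Orb hA Ω) := Fintype.ofFinite _
  rw [show Nat.card Ω = Nat.card {x : Ω // True} from
      (Nat.card_congr (Equiv.subtypeUnivEquiv fun _ => trivial)).symm,
    h.card_invariant hA (fun _ => True) fun _ => Iff.rfl,
    h.card_invariant hA (fun x => h.t • x = x) fun hr => h.moved_congr hA hr,
    ← Finset.sum_add_distrib]
  simp only [numLin]
  rw [sum_card_swap, Finset.mul_sum]
  refine Finset.sum_congr rfl fun q _ => ?_
  rw [if_pos trivial]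
  split_ifs with hq
  · rw [h.card_orbit_fixed hA hB hq, two_mul]
  · rw [h.card_orbit_moved hA hB hq, add_zero]

include hA in
theorem sum_num_split [DecidableEq W] (hk : 1 ≤ k) {Qp Qm : W → ZMod 2} (hp : IsQF B Qp)
    (hzp : zeros Qp = Mp k) (hm : IsQF B Qm) (hzm : zeros Qm = Mm k) :
    ∑ Q : W → ZMod 2, h.num Q hA Ω = h.num Qp hA Ω * Mp k + h.num Qm hA Ω * Mm k := by
  classical
  have h0 : ∀ Q : W → ZMod 2, ¬ IsQF B Q → h.num Q hA Ω = 0 := fun Q hQ => by
    have : IsEmpty {q : h.Orb hA Ω // h.Compat Q q.out} := ⟨fun q => hQ q.2.1⟩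
    simp [num]
  have hkey : ∀ Q, h.num Q hA Ω =
      (if IsQF B Q ∧ zeros Q = zeros Qp then h.num Qp hA Ω else 0) +
      (if IsQF B Q ∧ zeros Q = zeros Qm then h.num Qm hA Ω else 0) := by
    intro Q
    have hne : Mp k ≠ Mm k := (Mm_lt_Mp hk).ne'
    by_cases hQ : IsQF B Q
    · rcases zeros_eq hA hB hk hfr hQ with e | e
      · simp [hQ, e, hzp, hzm, hne, h.num_eq_of_zeros hA hB hk hfr hp hQ (e.trans hzp.symm)]
      · simp [hQ, e, hzp, hzm, hne.symm, h.num_eq_of_zeros hA hB hk hfr hm hQ (e.trans hzm.symm)]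
    · simp [hQ, h0 Q hQ]
  rw [Finset.sum_congr rfl fun Q _ => hkey Q]
  simp only [Finset.sum_add_distrib, Finset.sum_ite, Finset.sum_const_zero, add_zero,
    Finset.sum_const, smul_eq_mul]
  have e : ∀ Q₀ : W → ZMod 2, IsQF B Q₀ →
      (Finset.univ.filter fun Q => IsQF B Q ∧ zeros Q = zeros Q₀).card = zeros Q₀ := fun Q₀ h₀ => by
    rw [← Fintype.card_subtype, ← Nat.card_eq_fintype_card, card_sameType hA hB hk hfr h₀]
  rw [e Qp hp, e Qm hm, hzp, hzm, mul_comm (Mp k), mul_comm (Mm k)]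

end

include hA in
omit [Finite Ω] in
theorem cases_of_lin_trivial [Finite W] (hB : B.Nondegenerate) {ω : Ω}
    (htriv : ∀ y, h.Lin y ω → y = 0) (w : W) : h.e w • ω = ω ∨ h.e w • ω = h.t • ω := by
  have : FiniteDimensional (ZMod 2) W := Module.Finite.of_finite
  have hbot : B.orthogonal (h.L hA ω) = ⊥ :=
    (Submodule.eq_bot_iff _).2 fun y hy => htriv y ((h.lin_iff hA).2 hy)
  have htop : h.L hA ω = ⊤ := by
    rw [← LinearMap.BilinForm.orthogonal_orthogonal hB hA.isRefl (h.L hA ω), hbot]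
    exact Submodule.eq_top_iff'.2 fun x => LinearMap.BilinForm.mem_orthogonal_iff.2 fun n hn => by
      rw [(Submodule.mem_bot _).1 hn]; simp
  obtain ⟨c, hc⟩ : w ∈ h.L hA ω := htop ▸ Submodule.mem_top
  rcases zmod_two_cases c with rfl | rfl
  · exact .inl (by simpa [el] using hc)
  · right
    conv_rhs => rw [← hc]
    simp [el, ZMod.val_one, ← mul_smul, ← mul_assoc, h.t_mul_t]

/-- What a small action of the radical looks like. -/
theorem dichotomy [Finite W] (hB : B.Nondegenerate) {k : ℕ} (hk : 2 ≤ k)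
    (hfr : Module.finrank (ZMod 2) W = 2 * k) (hA' : B.IsAlt)
    (hN : Nat.card Ω < Mm (k + 1)) (hD : ∃ ω : Ω, h.t • ω ≠ ω) :
    ((∀ ω : Ω, h.t • ω ≠ ω → ∀ w, h.e w • ω = ω ∨ h.e w • ω = h.t • ω) ∧
      ∃ M, (M = Mp k ∨ M = Mm k) ∧ Nat.card {x : Ω // h.t • x ≠ x} = 2 * M ∧
        ∀ X : Set Ω, X.Nonempty → (∀ x ∈ X, h.t • x ≠ x) → (∀ z, ∀ x ∈ X, h.tau z • x ∈ X) →
          M ≤ Nat.card X) ∨
    ((∀ ω : Ω, ∀ w, h.e w • ω = ω ∨ h.e w • ω = h.t • ω) ∧
      Nat.card {x : Ω // h.t • x = x} < 2 ^ k ∧ 4 * Mm k ≤ Nat.card Ω) := by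
  classical
  have : Fintype W := Fintype.ofFinite W
  have : FiniteDimensional (ZMod 2) W := Module.Finite.of_finite
  have hk1 : 1 ≤ k := by omega
  obtain ⟨Qp, hp, hzp⟩ := exists_plus hA' hB hk1 hfr
  obtain ⟨Qm, hm, hzm⟩ := exists_minus hA' hB hk1 hfr
  have hD2 : Nat.card {x : Ω // h.t • x ≠ x} =
      2 * (h.num Qp hA' Ω * Mp k + h.num Qm hA' Ω * Mm k) := by
    rw [h.card_moved hA' hB hfr hk1, h.sum_num_split hA' hB hfr hk1 hp hzp hm hzm]
  have hAD : Nat.card {x : Ω // h.t • x = x} + Nat.card {x : Ω // h.t • x ≠ x} = Nat.card Ω := by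
    rw [← Nat.card_sum]
    exact Nat.card_congr (Equiv.sumCompl _)
  have hDpos : 0 < Nat.card {x : Ω // h.t • x ≠ x} :=
    Nat.card_pos_iff.2 ⟨⟨⟨hD.choose, hD.choose_spec⟩⟩, inferInstance⟩
  obtain ⟨j, hj⟩ : ∃ j, k = j + 2 := ⟨k - 2, by omega⟩
  have hq : 2 ≤ 2 ^ (k - 1) := by
    calc 2 = 2 ^ 1 := rfl
      _ ≤ _ := Nat.pow_le_pow_right (by norm_num) (by omega)
  have e2k : 2 ^ k = 2 * 2 ^ (k - 1) := by rw [← pow_succ', Nat.sub_add_cancel hk1]
  have eMp : Mp k = 2 ^ (k - 1) * (2 * 2 ^ (k - 1) + 1) := by rw [Mp, e2k]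
  have eMm : Mm k = 2 ^ (k - 1) * (2 * 2 ^ (k - 1) - 1) := by rw [Mm, e2k]
  have eMm' : Mm (k + 1) = 2 * 2 ^ (k - 1) * (4 * 2 ^ (k - 1) - 1) := by
    rw [Mm, Nat.add_sub_cancel, pow_succ', e2k]
    congr 1
    omega
  have hcases : (h.num Qp hA' Ω = 1 ∧ h.num Qm hA' Ω = 0) ∨
      (h.num Qp hA' Ω = 0 ∧ h.num Qm hA' Ω = 1) ∨ (h.num Qp hA' Ω = 0 ∧ h.num Qm hA' Ω = 2) := by
    generalize h.num Qp hA' Ω = a at *
    generalize h.num Qm hA' Ω = b at *
    generalize 2 ^ (k - 1) = q at *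
    obtain ⟨r, rfl⟩ : ∃ r, q = r + 2 := ⟨q - 2, by omega⟩
    rw [eMm', show 4 * (r + 2) - 1 = 4 * r + 7 by omega] at hN
    rw [eMp, eMm, show 2 * (r + 2) - 1 = 2 * r + 3 by omega] at hD2
    have hab : a * (2 * r + 5) + b * (2 * r + 3) < 4 * r + 7 := by
      refine Nat.lt_of_mul_lt_mul_left (a := 2 * (r + 2)) ?_
      calc 2 * (r + 2) * (a * (2 * r + 5) + b * (2 * r + 3))
          = Nat.card {x : Ω // h.t • x ≠ x} := by rw [hD2]; ring
        _ < 2 * (r + 2) * (4 * r + 7) := by omega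
    rcases Nat.lt_or_ge a 2 with ha | ha
    · rcases Nat.lt_or_ge b 3 with hb | hb
      · interval_cases a <;> interval_cases b <;> omega
      · have := Nat.mul_le_mul_right (2 * r + 3) hb
        omega
    · have := Nat.mul_le_mul_right (2 * r + 5) ha
      omega
  suffices hsingle : ∀ M, (M = Mp k ∨ M = Mm k) →
      (∀ Q, IsQF B Q → h.num Q hA' Ω = if zeros Q = M then 1 else 0) →
      Nat.card {x : Ω // h.t • x ≠ x} = 2 * M →
      (∀ ω : Ω, h.t • ω ≠ ω → ∀ w, h.e w • ω = ω ∨ h.e w • ω = h.t • ω) ∧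
      ∃ M, (M = Mp k ∨ M = Mm k) ∧ Nat.card {x : Ω // h.t • x ≠ x} = 2 * M ∧
        ∀ X : Set Ω, X.Nonempty → (∀ x ∈ X, h.t • x ≠ x) → (∀ z, ∀ x ∈ X, h.tau z • x ∈ X) →
          M ≤ Nat.card X by
    have hne : Mp k ≠ Mm k := (Mm_lt_Mp hk1).ne'
    have hnum : ∀ Q, IsQF B Q → h.num Q hA' Ω =
        if zeros Q = Mp k then h.num Qp hA' Ω else h.num Qm hA' Ω := fun Q hQ => by
      rcases zeros_eq hA' hB hk1 hfr hQ with e | e
      · rw [if_pos e, h.num_eq_of_zeros hA' hB hk1 hfr hp hQ (e.trans hzp.symm)]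
      · rw [if_neg (by rw [e]; exact hne.symm),
          h.num_eq_of_zeros hA' hB hk1 hfr hm hQ (e.trans hzm.symm)]
    rcases hcases with ⟨ha, hb⟩ | ⟨ha, hb⟩ | ⟨ha, hb⟩
    · refine .inl (hsingle (Mp k) (.inl rfl) (fun Q hQ => ?_) (by rw [hD2, ha, hb]; simp))
      rw [hnum Q hQ, ha, hb]
    · refine .inl (hsingle (Mm k) (.inr rfl) (fun Q hQ => ?_) (by rw [hD2, ha, hb]; simp))
      rw [hnum Q hQ, ha, hb]
      rcases zeros_eq hA' hB hk1 hfr hQ with e | e <;> simp [e, hne, hne.symm]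
    · right
      have hlt : Nat.card {x : Ω // h.t • x = x} < 2 ^ k := by
        rw [ha, hb] at hD2
        rw [eMm'] at hN
        rw [eMm] at hD2
        rw [e2k]
        generalize 2 ^ (k - 1) = q at *
        obtain ⟨r, rfl⟩ : ∃ r, q = r + 2 := ⟨q - 2, by omega⟩
        rw [show 4 * (r + 2) - 1 = 4 * r + 7 by omega] at hN
        rw [show 2 * (r + 2) - 1 = 2 * r + 3 by omega] at hD2
        nlinarith
      refine ⟨?_, hlt, by rw [ha, hb] at hD2; omega⟩
      intro ω w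
      have hlin := h.card_lin (Ω := Ω) hA' hB hfr
      have hW : Nontrivial W := by
        refine Module.nontrivial_of_finrank_pos (R := ZMod 2) (by omega)
      obtain ⟨y₀, hy₀⟩ := exists_ne (0 : W)
      have hsum : ∑ y : W, h.numLin y hA' Ω =
          h.numLin 0 hA' Ω + (Nat.card W - 1) * h.numLin y₀ hA' Ω := by
        rw [Fintype.sum_eq_add_sum_compl (0 : W), Finset.sum_congr rfl
          (g := fun _ => h.numLin y₀ hA' Ω) fun y hy => h.numLin_eq hA' hB (by simpa using hy) hy₀,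
          Finset.sum_const, smul_eq_mul, Finset.card_compl, Finset.card_singleton,
          Nat.card_eq_fintype_card]
      have h0pos : 0 < h.numLin 0 hA' Ω :=
        Nat.card_pos_iff.2 ⟨⟨⟨Quotient.mk _ hD.choose, fun p _ => map_zero _⟩⟩, inferInstance⟩
      have hb0 : h.numLin y₀ hA' Ω = 0 := by
        by_contra hne'
        have h1 : (Nat.card W - 1) * 1 ≤ (Nat.card W - 1) * h.numLin y₀ hA' Ω :=
          Nat.mul_le_mul_left _ (Nat.one_le_iff_ne_zero.2 hne')
        rw [hsum] at hlin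
        rw [natCard_eq hfr] at h1 hlin
        have hM := Mp_add_Mm hk1
        have hMd : Mp k = Mm k + 2 ^ k := by
          rw [eMp, eMm, e2k]
          generalize 2 ^ (k - 1) = q at *
          obtain ⟨r, rfl⟩ : ∃ r, q = r + 2 := ⟨q - 2, by omega⟩
          rw [show 2 * (r + 2) - 1 = 2 * r + 3 by omega]
          ring
        rw [ha, hb] at hD2
        omega
      refine h.cases_of_lin_trivial hA' hB (fun y hy => ?_) w
      by_contra hy0
      have hpos : 0 < h.numLin y hA' Ω :=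
        Nat.card_pos_iff.2 ⟨⟨⟨Quotient.mk _ ω, (h.lin_congr hA' (h.rel_out hA' ω) y).2 hy⟩⟩,
          inferInstance⟩
      rw [h.numLin_eq hA' hB hy0 hy₀, hb0] at hpos
      exact lt_irrefl _ hpos
  intro M hM hnum hDM
  have htype : ∀ {Q} {ω : Ω}, h.Compat Q ω → zeros Q = M := by
    intro Q ω hQ
    have hpos : 0 < h.num Q hA' Ω :=
      Nat.card_pos_iff.2 ⟨⟨⟨Quotient.mk _ ω, (h.compat_congr hA' (h.rel_out hA' ω) Q).2 hQ⟩⟩,
        inferInstance⟩
    rw [hnum Q hQ.1] at hpos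
    by_contra hne
    simp [hne] at hpos
  have huniq : ∀ {Q} {ω ω' : Ω}, h.Compat Q ω → h.Compat Q ω' → h.rel ω ω' := by
    intro Q ω ω' hQ hQ'
    have h1 : Nat.card {q : h.Orb hA' Ω // h.Compat Q q.out} = 1 :=
      (hnum Q hQ.1).trans (if_pos (htype hQ))
    have := (Nat.card_eq_one_iff_unique.1 h1).1
    exact Quotient.exact (congrArg Subtype.val
      (Subsingleton.elim (α := {q : h.Orb hA' Ω // h.Compat Q q.out})
        ⟨_, (h.compat_congr hA' (h.rel_out hA' ω) Q).2 hQ⟩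
        ⟨_, (h.compat_congr hA' (h.rel_out hA' ω') Q).2 hQ'⟩))
  have htriv : ∀ ω : Ω, h.t • ω ≠ ω → ∀ y, h.Lin y ω → y = 0 := by
    intro ω hω y hy
    by_contra hy0
    obtain ⟨Q, hQ⟩ := h.exists_compat hA' hB hk1 hfr hω
    have hQy := (h.compat_shift_iff hQ y).2 hy
    have hQyz : Q y = 0 :=
      (zeros_shift_eq_iff hA' hB hk1 hfr hQ.1 y).1 ((htype hQy).trans (htype hQ).symm)
    obtain ⟨u, -, hu⟩ := CfsgLib.Classical.Symp.exists_partner
      (CfsgLib.Classical.Symp.nondeg_top hB) (Submodule.mem_top (x := y)) hy0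
    wlog hQu : Q u = 1 generalizing u
    · refine this (u + y) ?_ ?_
      · rw [map_add, hA' y, hu, add_zero]
      · rw [hQ.1 u y, (zmod_ne_one_iff _).1 hQu, hQyz, bil_comm hA' y u, hu]
        simp
    have h1 : h.Compat Q (h.tau u • ω) := by
      have := h.compat_tau hQ u
      rwa [IsQF.trQ_of_one hQu] at this
    have h2 : h.Compat (trQ B u (shift B Q y)) ω :=
      (h.compat_congr hA' (huniq h1 hQ) _).1 (h.compat_tau hQy u)
    have h3 : trQ B u (shift B Q y) = shift B Q (y + u) := by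
      funext w
      simp only [trQ, shift, map_add, hQu, bil_comm hA' y u, hu]
      have := CharTwo.add_self_eq_zero (1 : ZMod 2)
      linear_combination B w u * this
    rw [h3] at h2
    have h4 : h.Lin (y + u) ω := (h.compat_shift_iff hQ _).1 h2
    have h5 : h.Lin u ω := fun p hp => by
      have := h4 p hp
      rwa [map_add, hy p hp, zero_add] at this
    have h6 := (zeros_shift_eq_iff hA' hB hk1 hfr hQ.1 u).1
      ((htype ((h.compat_shift_iff hQ u).2 h5)).trans (htype hQ).symm)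
    rw [hQu] at h6
    exact one_ne_zero h6
  refine ⟨fun ω hω w => h.cases_of_lin_trivial hA' hB (htriv ω hω) w, M, hM, hDM, fun X hne hX hinv => ?_⟩
  have hone : ∀ {Q Q'} {ω : Ω}, h.t • ω ≠ ω → h.Compat Q ω → h.Compat Q' ω → Q = Q' := by
    intro Q Q' ω hω hQ hQ'
    obtain ⟨y, rfl⟩ := IsQF.exists_shift hA' hB hQ.1 hQ'.1
    rw [htriv ω hω y ((h.compat_shift_iff hQ y).1 hQ')]
    funext w
    simp [shift]
  choose f hf using fun x : X => h.exists_compat hA' hB hk1 hfr (hX x.1 x.2)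
  obtain ⟨x₀, hx₀⟩ := hne
  have hM' : M = Nat.card {Q' : W → ZMod 2 // IsQF B Q' ∧ zeros Q' = zeros (f ⟨x₀, hx₀⟩)} := by
    rw [card_sameType hA' hB hk1 hfr (hf ⟨x₀, hx₀⟩).1, htype (hf ⟨x₀, hx₀⟩)]
  rw [hM']
  refine Nat.card_le_card_of_surjective
    (fun x : X => (⟨f x, (hf x).1, (htype (hf x)).trans (htype (hf ⟨x₀, hx₀⟩)).symm⟩ :
      {Q' : W → ZMod 2 // IsQF B Q' ∧ zeros Q' = zeros (f ⟨x₀, hx₀⟩)})) ?_
  rintro ⟨Q', hQ', hz⟩
  obtain ⟨z, rfl⟩ := IsQF.exists_shift hA' hB (hf ⟨x₀, hx₀⟩).1 hQ'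
  have hmem := hinv z x₀ hx₀
  refine ⟨⟨_, hmem⟩, Subtype.ext (hone (hX _ hmem) (hf _) ?_)⟩
  have := h.compat_tau (hf ⟨x₀, hx₀⟩) z
  rwa [IsQF.trQ_of_zero ((zeros_shift_eq_iff hA' hB hk1 hfr (hf ⟨x₀, hx₀⟩).1 z).1 hz)] at this

end Heis

end CfsgLib.LocalEvenB.MinIndexSp
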