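import Cfsg.Agent.Lib.LocalEvenB.MinIndexSp.Single
import Cfsg.Agent.Lib.LocalEvenB.MinIndexSp.Double
import Cfsg.Agent.Lib.Classical.Symplectic.MatrixStructure
import Cfsg.Agent.Lib.Classical.RingTransfer

/-!
The minimal index of a proper subgroup of `Sp (2m, 2)` for `m ≥ 3`.
-/

set_option autoImplicit false

namespace CfsgLib.LocalEvenB.MinIndexSp

open LinearMap (BilinForm)
open CfsgLib.Classical (Symp.Sp)

variable {V : Type*} [AddCommGroup V] [Module (ZMod 2) V] {B : BilinForm (ZMod 2) V}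
  (hA : B.IsAlt) [Finite V] (hB : B.Nondegenerate) {k : ℕ}
  (hfr : Module.finrank (ZMod 2) V = 2 * (k + 1))

include hA hB hfr

theorem le_index (hk : 2 ≤ k) (H : Subgroup (Symp.Sp B)) (hH : H ≠ ⊤) :
    Mm (k + 1) ≤ H.index := by
  have : Finite (V ≃ₗ[ZMod 2] V) := Finite.of_injective _ DFunLike.coe_injective
  have h1 : 1 < Nat.card (Symp.Sp B ⧸ H) := by
    have h2 : Nat.card (Symp.Sp B ⧸ H) ≠ 1 := fun h => hH (Subgroup.index_eq_one.1 h)
    have h3 : 0 < Nat.card (Symp.Sp B ⧸ H) := Nat.card_pos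
    omega
  by_contra hN
  push Not at hN
  rcases shapes (Ω := Symp.Sp B ⧸ H) hA hB hfr hk h1 hN with ⟨hs, hb⟩ | ⟨hs, hf, hN0⟩
  · exact false_of_single hA hB hfr hk h1 hN hs hb
  · exact false_of_double hA hB hfr hk h1 hN hs hf hN0

theorem exists_index : ∃ H : Subgroup (Symp.Sp B), H.index = Mm (k + 1) := by
  have : FiniteDimensional (ZMod 2) V := Module.Finite.of_finite
  obtain ⟨Q, hQ, hz⟩ := exists_minus hA hB (show 1 ≤ k + 1 by omega) hfr
  let H : Subgroup (Symp.Sp B) :=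
    { carrier := {g | ∀ x, Q ((g : V ≃ₗ[ZMod 2] V) x) = Q x}
      one_mem' := fun x => rfl
      mul_mem' := fun {a b} ha hb x => by
        rw [Subgroup.coe_mul, LinearEquiv.mul_apply, ha, hb]
      inv_mem' := fun {a} ha x => by
        have := ha ((a⁻¹ : Symp.Sp B).1 x)
        rw [← LinearEquiv.mul_apply, ← Subgroup.coe_mul, mul_inv_cancel] at this
        exact this.symm }
  refine ⟨H, ?_⟩
  rw [Subgroup.index, ← hz]
  refine (Nat.card_congr (Equiv.ofBijective
    (fun z : {z : V // Q z = 0} => ((T hA z.1 : Symp.Sp B) : Symp.Sp B ⧸ H)) ⟨?_, ?_⟩)).symm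
  · intro a b e
    have hm : (T hA a.1)⁻¹ * T hA b.1 ∈ H := QuotientGroup.eq.1 e
    rw [inv_eq_of_mul_eq_one_right (T_mul_self hA a.1)] at hm
    refine Subtype.ext (IsQF.shift_injective hA hB (Q := Q) ?_)
    funext w
    have h1 := hm w
    rw [← IsQF.trQ_of_zero a.2, ← IsQF.trQ_of_zero b.2, ← hQ.trQ_eq, ← hQ.trQ_eq, ← T_apply hA,
      ← T_apply hA]
    have h2 := hm ((T hA b.1 : V ≃ₗ[ZMod 2] V) w)
    rw [← LinearEquiv.mul_apply, ← Subgroup.coe_mul, mul_assoc, T_mul_self, mul_one] at h2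
    exact h2
  · intro q
    induction q using QuotientGroup.induction_on with
    | _ g =>
      set Q' : V → ZMod 2 := fun x => Q ((g⁻¹ : Symp.Sp B).1 x) with hQ'def
      have hQ' : IsQF B Q' := fun a b => by
        simp only [hQ'def, map_add, hQ _ _, (g⁻¹ : Symp.Sp B).2 a b]
      have hz' : zeros Q' = zeros Q :=
        Nat.card_congr ((g⁻¹ : Symp.Sp B).1.toEquiv.subtypeEquiv fun _ => Iff.rfl)
      obtain ⟨z, hz0⟩ := IsQF.exists_shift hA hB hQ hQ'
      have hQz : Q z = 0 := (zeros_shift_eq_iff hA hB (show 1 ≤ k + 1 by omega) hfr hQ z).1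
        (hz0 ▸ hz')
      refine ⟨⟨z, hQz⟩, QuotientGroup.eq.2 fun x => ?_⟩
      rw [inv_eq_of_mul_eq_one_right (T_mul_self hA z), Subgroup.coe_mul, LinearEquiv.mul_apply,
        T_apply, hQ.trQ_eq, IsQF.trQ_of_zero hQz, ← hz0]
      simp only [hQ'def]
      rw [← LinearEquiv.mul_apply, ← Subgroup.coe_mul, inv_mul_cancel]
      rfl

omit hA hB hfr
omit [Finite V] in
/-- Transport of the two properties along an isomorphism. -/
theorem index_transfer {G G' : Type*} [Group G] [Group G'] (e : G ≃* G') (n : ℕ)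
    (h : (∀ H : Subgroup G', H ≠ ⊤ → n ≤ H.index) ∧ ∃ H : Subgroup G', H.index = n) :
    (∀ H : Subgroup G, H ≠ ⊤ → n ≤ H.index) ∧ ∃ H : Subgroup G, H.index = n := by
  obtain ⟨h1, H, hH⟩ := h
  refine ⟨fun K hK => ?_, H.comap e.toMonoidHom, ?_⟩
  · rw [← Subgroup.index_comap_of_surjective (f := e.symm.toMonoidHom) K e.symm.surjective]
    refine h1 _ fun ht => hK (eq_top_iff.2 fun x _ => ?_)
    have : e x ∈ K.comap e.symm.toMonoidHom := ht ▸ Subgroup.mem_top _
    simpa using this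
  · rw [Subgroup.index_comap_of_surjective (f := e.toMonoidHom) H e.surjective, hH]

/-- The minimal index of a proper subgroup of the symplectic group over a field of two elements. -/
theorem min_index_psp {F : Type*} [Field F] [Fintype F] (hF : Fintype.card F = 2) (m : ℕ)
    (hm : 3 ≤ m) :
    (∀ H : Subgroup (Cfsg.PSp m F), H ≠ ⊤ → 2 ^ (m - 1) * (2 ^ m - 1) ≤ H.index) ∧
      ∃ H : Subgroup (Cfsg.PSp m F), H.index = 2 ^ (m - 1) * (2 ^ m - 1) := by
  obtain ⟨e₀⟩ := Classical.exists_zmod_equiv F (p := 2) hF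
  have hcard : Nat.card (Subgroup.center (Matrix.symplecticGroup (Fin m) F)) = 1 := by
    rw [Classical.Symp.card_center_symplecticGroup (by omega), hF]
    rfl
  have e1 : Matrix.symplecticGroup (Fin m) F ⧸ Subgroup.center (Matrix.symplecticGroup (Fin m) F) ≃*
      Matrix.symplecticGroup (Fin m) F :=
    (QuotientGroup.quotientMulEquivOfEq (Subgroup.card_eq_one.1 hcard)).trans
      QuotientGroup.quotientBot
  let e : Cfsg.PSp m F ≃* Symp.Sp (Classical.Symp.sympBil m (ZMod 2)) :=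
    e1.trans ((Classical.symplecticMap e₀.symm (Fin m)).trans
      (Classical.Symp.symplecticEquiv m (ZMod 2)))
  obtain ⟨j, rfl⟩ : ∃ j, m = j + 1 := ⟨m - 1, by omega⟩
  refine index_transfer e _ ?_
  have hfr := Classical.Symp.finrank_sympSpace (F := ZMod 2) (m := j + 1)
  exact ⟨fun H hH => le_index (Classical.Symp.sympBil_isAlt _ _)
      (Classical.Symp.sympBil_nondegenerate _ _) hfr (by omega) H hH,
    exists_index (Classical.Symp.sympBil_isAlt _ _)
      (Classical.Symp.sympBil_nondegenerate _ _) hfr⟩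

end CfsgLib.LocalEvenB.MinIndexSp
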