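import Cfsg.Agent.Lib.Classical.Symplectic.Geometry
import Cfsg.Agent.Lib.Classical.Quad.StandardForms
import Mathlib.Algebra.CharP.Two
import Mathlib.Algebra.Field.ZMod

/-!
Quadratic functions over the field with two elements with a given nondegenerate alternating polar
form: their numbers of zeros and the two classes they fall into.
-/

set_option autoImplicit false

namespace CfsgLib.LocalEvenB.MinIndexSp

open LinearMap (BilinForm)
open CfsgLib.Classical

variable {W : Type*} [AddCommGroup W] [Module (ZMod 2) W] {B : BilinForm (ZMod 2) W}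

theorem zmod_two_cases : ∀ c : ZMod 2, c = 0 ∨ c = 1 := by decide

theorem zmod_ne_zero_iff : ∀ c : ZMod 2, c ≠ 0 ↔ c = 1 := by decide

theorem zmod_ne_one_iff : ∀ c : ZMod 2, c ≠ 1 ↔ c = 0 := by decide

theorem add_self_vec (x : W) : x + x = 0 := by
  rw [← two_smul (ZMod 2) x, show (2 : ZMod 2) = 0 from rfl, zero_smul]

theorem neg_vec (x : W) : -x = x := (eq_neg_of_add_eq_zero_left (add_self_vec x)).symm

theorem sub_vec (x y : W) : x - y = x + y := by rw [sub_eq_add_neg, neg_vec]

theorem add_add_cancel_vec (x y : W) : x + (x + y) = y := by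
  rw [← add_assoc, add_self_vec, zero_add]

theorem bil_comm (hA : B.IsAlt) (a b : W) : B b a = B a b := by
  rw [Symp.swap hA a b, CharTwo.neg_eq]

/-- A quadratic function with polar form `B`. -/
def IsQF (B : BilinForm (ZMod 2) W) (Q : W → ZMod 2) : Prop :=
  ∀ a b, Q (a + b) = Q a + Q b + B a b

/-- The number of zeros. -/
noncomputable def zeros (Q : W → ZMod 2) : ℕ := Nat.card {w : W // Q w = 0}

/-- The translate of `Q` by the functional `B (·, z)`. -/
def shift (B : BilinForm (ZMod 2) W) (Q : W → ZMod 2) (z : W) : W → ZMod 2 := fun w => Q w + B w z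

/-- The effect of the transvection along `z` on `Q`. -/
def trQ (B : BilinForm (ZMod 2) W) (z : W) (Q : W → ZMod 2) : W → ZMod 2 :=
  fun w => Q w + (Q z + 1) * B w z

namespace IsQF

variable {Q : W → ZMod 2}

theorem map_zero (h : IsQF B Q) : Q 0 = 0 := by
  have h0 := h 0 0
  simp only [add_zero, LinearMap.map_zero, CharTwo.add_self_eq_zero] at h0
  simpa using h0

theorem apply_smul (h : IsQF B Q) (c : ZMod 2) (z : W) : Q (c • z) = c * Q z := by
  rcases zmod_two_cases c with rfl | rfl <;> simp [h.map_zero]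

theorem trQ_eq (h : IsQF B Q) (z w : W) : Q (w + B w z • z) = trQ B z Q w := by
  rw [h, h.apply_smul, LinearMap.map_smul, smul_eq_mul, trQ]
  rcases zmod_two_cases (B w z) with e | e <;> simp [e, add_assoc]

theorem trQ_of_zero {z : W} (hz : Q z = 0) : trQ B z Q = shift B Q z := by
  funext w; simp [trQ, shift, hz]

theorem trQ_of_one {z : W} (hz : Q z = 1) : trQ B z Q = Q := by
  funext w; simp [trQ, hz, CharTwo.add_self_eq_zero]

theorem isQF_shift (h : IsQF B Q) (z : W) : IsQF B (shift B Q z) := fun a b => by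
  simp only [shift, h a b, map_add, LinearMap.add_apply]; abel

theorem isQF_trQ (h : IsQF B Q) (z : W) : IsQF B (trQ B z Q) := fun a b => by
  simp only [trQ, h a b, map_add, LinearMap.add_apply]; ring

theorem shift_apply_eq (h : IsQF B Q) (z w : W) : shift B Q z w = Q (w + z) + Q z := by
  rw [shift, h w z]
  have := CharTwo.add_self_eq_zero (Q z)
  linear_combination -this

theorem zeros_shift_of_zero (h : IsQF B Q) {z : W} (hz : Q z = 0) :
    zeros (shift B Q z) = zeros Q :=
  Nat.card_congr ((Equiv.addRight z).subtypeEquiv fun w => by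
    show shift B Q z w = 0 ↔ Q (w + z) = 0
    rw [h.shift_apply_eq, hz, add_zero])

theorem zeros_shift_of_one [Finite W] (h : IsQF B Q) {z : W} (hz : Q z = 1) :
    zeros (shift B Q z) + zeros Q = Nat.card W := by
  classical
  have e : zeros (shift B Q z) = Nat.card {w : W // ¬ Q w = 0} :=
    Nat.card_congr ((Equiv.addRight z).subtypeEquiv fun w => by
      show shift B Q z w = 0 ↔ ¬ Q (w + z) = 0
      rw [h.shift_apply_eq, hz]
      rcases zmod_two_cases (Q (w + z)) with e | e <;> simp [e, CharTwo.add_self_eq_zero])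
  rw [e, zeros, add_comm, ← Nat.card_sum]
  exact Nat.card_congr (Equiv.sumCompl _)

theorem exists_shift [FiniteDimensional (ZMod 2) W] (hA : B.IsAlt) (hB : B.Nondegenerate)
    {Q' : W → ZMod 2} (h : IsQF B Q) (h' : IsQF B Q') : ∃ z, Q' = shift B Q z := by
  let d : W →+ ZMod 2 :=
    AddMonoidHom.mk' (fun w => Q' w + Q w) (fun a b => by
      show Q' (a + b) + Q (a + b) = _
      rw [h' a b, h a b]
      have := CharTwo.add_self_eq_zero (B a b)
      linear_combination this)
  refine ⟨(LinearMap.BilinForm.toDual B hB).symm (d.toZModLinearMap 2), funext fun w => ?_⟩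
  rw [shift, bil_comm hA _ w, LinearMap.BilinForm.apply_toDual_symm_apply,
    AddMonoidHom.coe_toZModLinearMap]
  show Q' w = Q w + (Q' w + Q w)
  have := CharTwo.add_self_eq_zero (Q w)
  linear_combination -this

theorem shift_injective (hA : B.IsAlt) (hB : B.Nondegenerate) {z z' : W}
    (e : shift B Q z = shift B Q z') : z = z' := by
  rw [← sub_eq_zero]
  refine hB.1 _ fun w => ?_
  have := congrFun e w
  simp only [shift, add_right_inj] at this
  rw [map_sub, LinearMap.sub_apply, bil_comm hA w z, bil_comm hA w z', this, sub_self]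

end IsQF

/-- The two possible numbers of zeros. -/
def Mp (k : ℕ) : ℕ := 2 ^ (k - 1) * (2 ^ k + 1)

/-- The two possible numbers of zeros. -/
def Mm (k : ℕ) : ℕ := 2 ^ (k - 1) * (2 ^ k - 1)

theorem Mp_add_Mm {k : ℕ} (hk : 1 ≤ k) : Mp k + Mm k = 4 ^ k := by
  obtain ⟨j, rfl⟩ : ∃ j, k = j + 1 := ⟨k - 1, by omega⟩
  have h1 : 1 ≤ 2 ^ (j + 1) := Nat.one_le_two_pow
  have h4 : (4 : ℕ) ^ (j + 1) = 2 ^ (j + 1) * 2 ^ (j + 1) := by
    rw [← Nat.mul_pow]
  rw [Mp, Mm, ← mul_add, h4, Nat.add_sub_cancel, show 2 ^ (j + 1) + 1 + (2 ^ (j + 1) - 1) =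
    2 * 2 ^ (j + 1) by omega, ← mul_assoc, ← pow_succ]

theorem Mm_lt_Mp {k : ℕ} (hk : 1 ≤ k) : Mm k < Mp k :=
  Nat.mul_lt_mul_of_pos_left (by have : 1 ≤ 2 ^ k := Nat.one_le_two_pow; omega) (by positivity)

theorem Mm_pos {k : ℕ} (hk : 1 ≤ k) : 0 < Mm k := by
  have h : 2 ^ 1 ≤ 2 ^ k := Nat.pow_le_pow_right (by norm_num) hk
  have : 0 < 2 ^ k - 1 := by omega
  exact Nat.mul_pos (by positivity) this

variable [Finite W]

theorem natCard_eq {k : ℕ} (hfr : Module.finrank (ZMod 2) W = 2 * k) : Nat.card W = 4 ^ k := by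
  rw [Module.natCard_eq_pow_finrank (K := ZMod 2), hfr, Nat.card_zmod, pow_mul]
  norm_num

theorem exists_plus (hA : B.IsAlt) (hB : B.Nondegenerate) {k : ℕ} (hk : 1 ≤ k)
    (hfr : Module.finrank (ZMod 2) W = 2 * k) : ∃ Q, IsQF B Q ∧ zeros Q = Mp k := by
  have : FiniteDimensional (ZMod 2) W := Module.Finite.of_finite
  obtain ⟨n, v, hv, hn⟩ := Symp.exists_sympSys hA hB
  obtain rfl : k = n := by omega
  have hli := hv.linearIndependent hA
  have : Nonempty (Fin k ⊕ Fin k) := ⟨.inl ⟨0, hk⟩⟩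
  let b := basisOfLinearIndependentOfCardEqFinrank hli (by simp [hfr]; omega)
  have hb : ∀ i, b i = v i := fun i => by simp [b]
  refine ⟨fun w => Cfsg.quadFormPlus k (ZMod 2) (b.equivFun w), fun a c => ?_, ?_⟩
  · obtain ⟨h1, h2, h3⟩ := hv
    have h4 : ∀ i j, B (v (.inr i)) (v (.inl j)) = if j = i then 1 else 0 := fun i j => by
      rw [bil_comm hA, h1]
    have hexp : B a c = ∑ i, (b.equivFun a (.inl i) * b.equivFun c (.inr i) +
        b.equivFun a (.inr i) * b.equivFun c (.inl i)) := by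
      conv_lhs => rw [← b.sum_equivFun a, ← b.sum_equivFun c]
      simp [Fintype.sum_sum_type, hb, h1, h2, h3, h4, LinearMap.map_smul, Finset.sum_add_distrib,
        mul_comm]
    simp only [Cfsg.quadFormPlus, map_add, Pi.add_apply, hexp, ← Finset.sum_add_distrib]
    exact Finset.sum_congr rfl fun i _ => by ring
  · have hz : zeros (fun w => Cfsg.quadFormPlus k (ZMod 2) (b.equivFun w)) =
        Nat.card {x : Fin k ⊕ Fin k → ZMod 2 // Cfsg.quadFormPlus k (ZMod 2) x = 0} :=
      Nat.card_congr (b.equivFun.toEquiv.subtypeEquiv fun w => Iff.rfl)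
    have h := Quad.card_zero_plus (F := ZMod 2) (ZMod.card 2) k
    rw [← hz] at h
    obtain ⟨j, rfl⟩ : ∃ j, k = j + 1 := ⟨k - 1, by omega⟩
    have h' : (zeros fun w => Cfsg.quadFormPlus (j + 1) (ZMod 2) (b.equivFun w) : ℤ) =
        2 ^ j * (2 ^ (j + 1) + 1) := by
      push_cast at h
      apply mul_right_cancel₀ (show (2 : ℤ) ≠ 0 by norm_num)
      rw [h]
      ring
    rw [Mp, Nat.add_sub_cancel]
    exact_mod_cast h'

section

variable (hA : B.IsAlt) (hB : B.Nondegenerate) {k : ℕ} (hk : 1 ≤ k)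
  (hfr : Module.finrank (ZMod 2) W = 2 * k)
include hA hB hk hfr

theorem zeros_eq {Q : W → ZMod 2} (h : IsQF B Q) : zeros Q = Mp k ∨ zeros Q = Mm k := by
  have : FiniteDimensional (ZMod 2) W := Module.Finite.of_finite
  obtain ⟨Q0, h0, hz0⟩ := exists_plus hA hB hk hfr
  obtain ⟨z, rfl⟩ := IsQF.exists_shift hA hB h0 h
  rcases zmod_two_cases (Q0 z) with e | e
  · exact .inl (by rw [h0.zeros_shift_of_zero e, hz0])
  · right
    have := h0.zeros_shift_of_one e
    rw [natCard_eq hfr, ← Mp_add_Mm hk] at this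
    omega

theorem zeros_shift_eq_iff {Q : W → ZMod 2} (h : IsQF B Q) (z : W) :
    zeros (shift B Q z) = zeros Q ↔ Q z = 0 := by
  refine ⟨fun e => ?_, h.zeros_shift_of_zero⟩
  by_contra hz
  have hs := h.zeros_shift_of_one ((zmod_ne_zero_iff _).1 hz)
  have := Mm_lt_Mp hk
  rw [natCard_eq hfr, e, ← Mp_add_Mm hk] at hs
  rcases zeros_eq hA hB hk hfr h with e | e <;> omega

theorem Mm_le_zeros {Q : W → ZMod 2} (h : IsQF B Q) : Mm k ≤ zeros Q := by
  have := Mm_lt_Mp hk
  rcases zeros_eq hA hB hk hfr h with e | e <;> omega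

theorem exists_eq_one {Q : W → ZMod 2} (h : IsQF B Q) : ∃ w, Q w = 1 := by
  by_contra hne
  push Not at hne
  have hz : zeros Q = Nat.card W :=
    Nat.card_congr (Equiv.subtypeUnivEquiv fun w => (zmod_ne_one_iff _).1 (hne w))
  have := Mm_pos hk
  have := Mm_lt_Mp hk
  rw [natCard_eq hfr, ← Mp_add_Mm hk] at hz
  rcases zeros_eq hA hB hk hfr h with e | e <;> omega

theorem exists_minus : ∃ Q, IsQF B Q ∧ zeros Q = Mm k := by
  obtain ⟨Q0, h0, hz0⟩ := exists_plus hA hB hk hfr
  obtain ⟨z, hz⟩ := exists_eq_one hA hB hk hfr h0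
  refine ⟨shift B Q0 z, h0.isQF_shift z, ?_⟩
  have := h0.zeros_shift_of_one hz
  rw [natCard_eq hfr, ← Mp_add_Mm hk] at this
  omega

/-- The quadratic functions with the same number of zeros as `Q` correspond to the zeros of `Q`. -/
theorem card_sameType {Q : W → ZMod 2} (h : IsQF B Q) :
    Nat.card {Q' : W → ZMod 2 // IsQF B Q' ∧ zeros Q' = zeros Q} = zeros Q := by
  have : FiniteDimensional (ZMod 2) W := Module.Finite.of_finite
  refine (Nat.card_congr (Equiv.ofBijective
    (fun z : {z : W // Q z = 0} => (⟨shift B Q z, h.isQF_shift z, h.zeros_shift_of_zero z.2⟩ :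
      {Q' : W → ZMod 2 // IsQF B Q' ∧ zeros Q' = zeros Q})) ⟨?_, ?_⟩)).symm
  · intro a b e
    exact Subtype.ext (IsQF.shift_injective hA hB (congrArg Subtype.val e))
  · rintro ⟨Q', h', hz⟩
    obtain ⟨z, rfl⟩ := IsQF.exists_shift hA hB h h'
    exact ⟨⟨z, (zeros_shift_eq_iff hA hB hk hfr h z).1 hz⟩, rfl⟩

end

end CfsgLib.LocalEvenB.MinIndexSp
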