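import Cfsg.Agent.Lib.LocalEvenB.MinIndexSp.HeisCount
import Mathlib.GroupTheory.GroupAction.Pointwise

/-!
A transitive action of `Sp (2m, 2)` on fewer than `2 ^ (m - 1) (2 ^ m - 1)` points: how the radicals
of the stabilisers of vectors move the points, and that every point is fixed by some transvection.
-/

set_option autoImplicit false

namespace CfsgLib.LocalEvenB.MinIndexSp

open LinearMap (BilinForm)
open CfsgLib.Classical (Symp.Sp)

variable {V : Type*} [AddCommGroup V] [Module (ZMod 2) V] {B : BilinForm (ZMod 2) V}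

/-- The transvection along a vector. -/
def T (hA : B.IsAlt) (v : V) : Symp.Sp B := Classical.Symp.tr hA v 1

/-- The radical element attached to two orthogonal vectors. -/
def ee (hA : B.IsAlt) (v w : V) : Symp.Sp B := T hA v * T hA w * T hA (v + w)

variable (hA : B.IsAlt)

theorem T_apply (v x : V) : (T hA v : V ≃ₗ[ZMod 2] V) x = x + B x v • v := by
  simp [T, Classical.Symp.tr_apply]

theorem T_mul_self (v : V) : T hA v * T hA v = 1 := by
  rw [T, Classical.Symp.tr_mul, show (1 : ZMod 2) + 1 = 0 from rfl, Classical.Symp.tr_zero]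

theorem T_zero : T hA 0 = 1 := by ext x; simp [T_apply]

theorem conj_T (g : Symp.Sp B) (v : V) :
    g * T hA v * g⁻¹ = T hA ((g : V ≃ₗ[ZMod 2] V) v) := Classical.Symp.conj_tr hA g v 1

theorem mul_T (g : Symp.Sp B) (v : V) :
    g * T hA v = T hA ((g : V ≃ₗ[ZMod 2] V) v) * g := by
  rw [← conj_T, inv_mul_cancel_right]

theorem commute_T {v w : V} (h : B v w = 0) : T hA v * T hA w = T hA w * T hA v := by
  rw [mul_T, T_apply, bil_comm hA v w, h, zero_smul, add_zero]

theorem ee_apply {v w : V} (h : B v w = 0) (x : V) :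
    (ee hA v w : V ≃ₗ[ZMod 2] V) x = x + B x v • w + B x w • v := by
  have h' : B w v = 0 := (bil_comm hA v w).trans h
  simp only [ee, Subgroup.coe_mul, LinearEquiv.mul_apply, T_apply, map_add, LinearMap.map_smul,
    LinearMap.add_apply, LinearMap.smul_apply, smul_eq_mul, hA v, hA w, h, h', mul_zero, add_zero,
    smul_add]
  rcases zmod_two_cases (B x v) with e | e <;> rcases zmod_two_cases (B x w) with e' | e' <;>
    simp [e, e', add_self_vec, show (1 : ZMod 2) + 1 = 0 from rfl] <;>
    first
    | linear_combination (norm := abel1) add_self_vec w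
    | linear_combination (norm := abel1) add_self_vec v
    | linear_combination (norm := abel1) add_self_vec v + add_self_vec w
    | abel1

theorem ee_symm {v w : V} (h : B v w = 0) : ee hA w v = ee hA v w := by
  rw [ee, ee, commute_T hA h, add_comm]

theorem ee_add_self {v w : V} (h : B v w = 0) : ee hA v (w + v) = ee hA v w := by
  ext x
  rw [ee_apply hA h, ee_apply hA (by rw [map_add, h, hA v, add_zero]), map_add, smul_add, add_smul]
  rcases zmod_two_cases (B x v) with e | e <;> rcases zmod_two_cases (B x w) with e' | e' <;>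
    simp [e, e', add_assoc, add_self_vec]

/-- The complement of a hyperbolic pair. -/
def compl (B : BilinForm (ZMod 2) V) (u v : V) : Submodule (ZMod 2) V :=
  B.orthogonal (Submodule.span (ZMod 2) {u, v})

theorem mem_compl {u v w : V} : w ∈ compl B u v ↔ B u w = 0 ∧ B v w = 0 := by
  rw [compl, LinearMap.BilinForm.mem_orthogonal_iff]
  refine ⟨fun h => ⟨h u (Submodule.subset_span (by simp)), h v (Submodule.subset_span (by simp))⟩,
    fun ⟨h1, h2⟩ p hp => ?_⟩
  obtain ⟨a, b, rfl⟩ := Submodule.mem_span_pair.1 hp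
  simp [h1, h2]

/-- The data of the radical at `v`, seen on a complement of a hyperbolic pair `(u, v)`. -/
def heis (u v : V) : Heis (Symp.Sp B) (B.restrict (compl B u v)) where
  t := T hA v
  e w := ee hA v w
  tau z := T hA z
  t_mul_t := T_mul_self hA v
  t_e w := by
    have h := (mem_compl.1 w.2).2
    have h' : B v (v + (w : V)) = 0 := by rw [map_add, hA v, h, add_zero]
    exact ((Commute.refl _).mul_right (commute_T hA h)).mul_right (commute_T hA h')
  e_mul a b := by
    have ha := (mem_compl.1 a.2).2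
    have hb := (mem_compl.1 b.2).2
    have hab : B v ((a + b : compl B u v) : V) = 0 := (mem_compl.1 (a + b).2).2
    ext x
    show (ee hA v a * ee hA v b : Symp.Sp B).1 x =
      (T hA v ^ (B (a : V) b).val * ee hA v ((a + b : compl B u v) : V) : Symp.Sp B).1 x
    have hc := bil_comm hA (a : V) b
    rcases zmod_two_cases (B (a : V) b) with e | e <;> rw [e] at hc <;>
      simp [e, hc, ZMod.val_one, ee_apply, ha, hb, T_apply, bil_comm hA v, hA v,
        add_smul, smul_add] <;> module
  tau_t z := commute_T hA ((bil_comm hA v z).trans (mem_compl.1 z.2).2)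
  tau_e z w := by
    have hz := (mem_compl.1 z.2).2
    have hw := (mem_compl.1 w.2).2
    have hw' : B v ((w + B.restrict (compl B u v) w z • z : compl B u v) : V) = 0 :=
      (mem_compl.1 (w + _).2).2
    ext x
    show (T hA z * ee hA v w : Symp.Sp B).1 x =
      (ee hA v ((w + B.restrict (compl B u v) w z • z : compl B u v) : V) * T hA z : Symp.Sp B).1 x
    have hc := bil_comm hA (w : V) z
    rcases zmod_two_cases (B (w : V) z) with e | e <;> rw [e] at hc <;>
      rcases zmod_two_cases (B x (z : V)) with e' | e' <;>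
      simp [e, e', hc, ee_apply, hw, hz, T_apply, bil_comm hA v, hA (z : V), add_smul, smul_add,
        show (1 : ZMod 2) + 1 = 0 from rfl] <;>
      (match_scalars <;> ring_nf <;> simp [show (2 : ZMod 2) = 0 from rfl])
  tau_tau z := T_mul_self hA z

include hA in
theorem restrict_isAlt (W : Submodule (ZMod 2) V) : (B.restrict W).IsAlt :=
  Classical.Symp.restrict_isAlt hA W

variable [Finite V] (hB : B.Nondegenerate) {k : ℕ}
  (hfr : Module.finrank (ZMod 2) V = 2 * (k + 1))

include hA hB in
theorem restrict_nondeg {u v : V} (huv : B u v = 1) :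
    (B.restrict (compl B u v)).Nondegenerate := by
  have : FiniteDimensional (ZMod 2) V := Module.Finite.of_finite
  exact Classical.Symp.restrict_nondegenerate hA
    (Classical.Symp.nondeg_orthogonal hA hB (Classical.Symp.nondeg_pair hA huv)).2

include hA hB hfr in
theorem finrank_compl {u v : V} (huv : B u v = 1) :
    Module.finrank (ZMod 2) (compl B u v) = 2 * k := by
  have : FiniteDimensional (ZMod 2) V := Module.Finite.of_finite
  have h2 : Module.finrank (ZMod 2) (Submodule.span (ZMod 2) ({u, v} : Set V)) = 2 := by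
    have h := finrank_span_eq_card (Classical.Symp.linearIndependent_pair_of_one hA huv)
    rwa [Matrix.range_cons_cons_empty, Fintype.card_fin] at h
  rw [compl, LinearMap.BilinForm.finrank_orthogonal hB, h2, hfr]
  omega

/-- The property that the radical of the stabiliser of `v` moves `ω` at most to `T v • ω`. -/
def Short {Ω : Type*} [MulAction (Symp.Sp B) Ω] (v : V) (ω : Ω) : Prop :=
  ∀ w, B v w = 0 → ee hA v w • ω = ω ∨ ee hA v w • ω = T hA v • ω

variable {Ω : Type*} [MulAction (Symp.Sp B) Ω]

include hA in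
omit [Finite V] in
theorem short_of_compl {u v : V} (huv : B u v = 1) {ω : Ω}
    (h : ∀ w : compl B u v, ee hA v w • ω = ω ∨ ee hA v w • ω = T hA v • ω) : Short hA v ω := by
  intro w hw
  rcases zmod_two_cases (B u w) with e | e
  · exact h ⟨w, mem_compl.2 ⟨e, hw⟩⟩
  · have := h ⟨w + v, mem_compl.2 ⟨by rw [map_add, e, huv, CharTwo.add_self_eq_zero],
      by rw [map_add, hw, hA v, add_zero]⟩⟩
    rwa [ee_add_self hA hw] at this

include hA hB in
theorem exists_partner_left {v : V} (hv : v ≠ 0) : ∃ u, B u v = 1 := by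
  obtain ⟨u, -, hu⟩ := Classical.Symp.exists_partner (Classical.Symp.nondeg_top hB)
    (Submodule.mem_top (x := v)) hv
  exact ⟨u, (bil_comm hA v u).trans hu⟩

theorem card_moved_congr (g : Symp.Sp B) (v : V) :
    Nat.card {x : Ω // T hA ((g : V ≃ₗ[ZMod 2] V) v) • x ≠ x} =
      Nat.card {x : Ω // T hA v • x ≠ x} :=
  (Nat.card_congr ((MulAction.toPerm g).subtypeEquiv fun x => by
    show T hA v • x ≠ x ↔ T hA ((g : V ≃ₗ[ZMod 2] V) v) • g • x ≠ g • x
    rw [← mul_smul, ← mul_T, mul_smul]
    exact not_congr (smul_left_cancel_iff g).symm)).symm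

variable [Finite Ω] [MulAction.IsPretransitive (Symp.Sp B) Ω]

include hA hB in
theorem exists_moved (hΩ : 1 < Nat.card Ω) {v : V} (hv : v ≠ 0) :
    ∃ ω : Ω, T hA v • ω ≠ ω := by
  have : FiniteDimensional (ZMod 2) V := Module.Finite.of_finite
  by_contra h
  push Not at h
  have hall : ∀ (w : V) (ω : Ω), T hA w • ω = ω := fun w ω => by
    rcases eq_or_ne w 0 with rfl | hw
    · rw [T_zero, one_smul]
    obtain ⟨g, -, hg⟩ := Classical.Symp.sp_transitive_ne_zero hA hB hv hw
    rw [← hg, ← conj_T, mul_smul, mul_smul, h, smul_inv_smul]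
  have hfix : ∀ (g : Symp.Sp B) (ω : Ω), g • ω = ω := by
    intro g
    have hg : g ∈ Classical.Symp.trGroup hA (⊤ : Submodule (ZMod 2) V) := by
      rw [Classical.Symp.trGroup_eq_top hA hB]; trivial
    rw [Classical.Symp.trGroup] at hg
    induction hg using Subgroup.closure_induction with
    | mem y hy =>
      obtain ⟨w, -, c, rfl⟩ := hy
      intro ω
      rcases zmod_two_cases c with rfl | rfl
      · rw [Classical.Symp.tr_zero, one_smul]
      · exact hall w ω
    | one => exact one_smul _
    | mul a b _ _ ha hb => intro ω; rw [mul_smul, hb, ha]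
    | inv a _ ha => intro ω; exact inv_smul_eq_iff.2 (ha ω).symm
  obtain ⟨a, b, hab⟩ := Finite.one_lt_card_iff_nontrivial.1 hΩ |>.exists_pair_ne
  obtain ⟨g, hg⟩ := MulAction.exists_smul_eq (Symp.Sp B) a b
  exact hab ((hfix g a).symm.trans hg)

include hA hB hfr in
/-- The two possible shapes of the action. -/
theorem shapes (hk : 2 ≤ k) (hΩ : 1 < Nat.card Ω) (hN : Nat.card Ω < Mm (k + 1)) :
    ((∀ (v : V) (ω : Ω), T hA v • ω ≠ ω → Short hA v ω) ∧
      ∀ u v : V, B u v = 1 → ∃ M, Nat.card {x : Ω // T hA v • x ≠ x} = 2 * M ∧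
        ∀ X : Set Ω, X.Nonempty → (∀ x ∈ X, T hA v • x ≠ x) →
          (∀ z, B u z = 0 → B v z = 0 → ∀ x ∈ X, T hA z • x ∈ X) → M ≤ Nat.card X) ∨
    ((∀ (v : V) (ω : Ω), v ≠ 0 → Short hA v ω) ∧
      (∀ v : V, v ≠ 0 → Nat.card {x : Ω // T hA v • x = x} < 2 ^ k) ∧
      4 * Mm k ≤ Nat.card Ω) := by
  have : FiniteDimensional (ZMod 2) V := Module.Finite.of_finite
  have key := fun u v (huv : B u v = 1) =>
    (heis hA u v).dichotomy (Ω := Ω) (restrict_nondeg hA hB huv) hk
      (finrank_compl hA hB hfr huv) (restrict_isAlt hA _) hN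
      (exists_moved hA hB hΩ (Classical.Symp.ne_zero_of_apply_ne_zero (B := B) (v := u)
        (by rw [bil_comm hA u v, huv]; exact one_ne_zero)))
  by_cases hdb : ∃ v₀ : V, v₀ ≠ 0 ∧ Nat.card {x : Ω // T hA v₀ • x = x} < 2 ^ k ∧
      4 * Mm k ≤ Nat.card Ω
  · right
    obtain ⟨v₀, hv₀, hA0, hN0⟩ := hdb
    have hAv : ∀ v : V, v ≠ 0 → Nat.card {x : Ω // T hA v • x = x} < 2 ^ k := by
      intro v hv
      obtain ⟨g, -, hg⟩ := Classical.Symp.sp_transitive_ne_zero hA hB hv₀ hv
      have h1 := card_moved_congr (Ω := Ω) hA g v₀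
      rw [hg] at h1
      classical
      have h2 := Nat.card_congr (Equiv.sumCompl fun x : Ω => T hA v • x = x)
      have h3 := Nat.card_congr (Equiv.sumCompl fun x : Ω => T hA v₀ • x = x)
      rw [Nat.card_sum] at h2 h3
      simp only [ne_eq] at h1
      omega
    refine ⟨fun v ω hv => ?_, hAv, hN0⟩
    obtain ⟨u, huv⟩ := exists_partner_left hA hB hv
    rcases key u v huv with ⟨-, M, hMt, hM, -⟩ | ⟨hd, -, -⟩
    · exfalso
      classical
      have h2 := Nat.card_congr (Equiv.sumCompl fun x : Ω => T hA v • x = x)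
      rw [Nat.card_sum] at h2
      change Nat.card {x : Ω // ¬ T hA v • x = x} = 2 * M at hM
      have h4 := hAv v hv
      have hk1 : 1 ≤ k := by omega
      have e2k : 2 ^ k = 2 * 2 ^ (k - 1) := by rw [← pow_succ', Nat.sub_add_cancel hk1]
      have hq : 2 ≤ 2 ^ (k - 1) := by
        calc 2 = 2 ^ 1 := rfl
          _ ≤ _ := Nat.pow_le_pow_right (by norm_num) (by omega)
      have hMm3 : 3 * 2 ^ (k - 1) ≤ Mm k := by
        rw [Mm, mul_comm]
        exact Nat.mul_le_mul_left _ (by omega)
      have hMpd : Mp k = Mm k + 2 ^ k := by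
        have := Nat.one_le_two_pow (n := k)
        rw [Mp, Mm, show 2 ^ k + 1 = (2 ^ k - 1) + 2 by omega, mul_add, mul_comm _ 2, ← e2k]
      have hMle : M ≤ Mp k := by rcases hMt with rfl | rfl <;> omega
      omega
    · exact short_of_compl hA huv (hd ω)
  · left
    push Not at hdb
    refine ⟨fun v ω hω => ?_, fun u v huv => ?_⟩
    · have hv : v ≠ 0 := fun h0 => hω (by rw [h0, T_zero, one_smul])
      obtain ⟨u, huv⟩ := exists_partner_left hA hB hv
      rcases key u v huv with ⟨hs, -⟩ | ⟨-, hlt, hle⟩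
      · exact short_of_compl hA huv (hs ω hω)
      · exact absurd hle (not_le.2 (hdb v hv hlt))
    · have hv : v ≠ 0 := Classical.Symp.ne_zero_of_apply_ne_zero (B := B) (v := u)
        (by rw [bil_comm hA u v, huv]; exact one_ne_zero)
      rcases key u v huv with ⟨-, M, -, hM, hX⟩ | ⟨-, hlt, hle⟩
      · exact ⟨M, hM, fun X hne hmv hinv =>
          hX X hne hmv fun z => hinv z (mem_compl.1 z.2).1 (mem_compl.1 z.2).2⟩
      · exact absurd hle (not_le.2 (hdb v hv hlt))

end CfsgLib.LocalEvenB.MinIndexSp
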