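import Cfsg.Agent.Lib.LocalEvenB.MinIndexSp.Empty
import Cfsg.Agent.Lib.Classical.Symplectic.Structure

/-!
The case that one class of quadratic functions occurs once: whether the transvection along a vector
fixes a given point is a quadratic function of the vector, or an affine one, invariant under the
stabiliser of the point, and the orbit of such a function is too long.
-/

set_option autoImplicit false

namespace CfsgLib.LocalEvenB.MinIndexSp

open LinearMap (BilinForm)
open CfsgLib.Classical (Symp.Sp)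

variable {V : Type*} [AddCommGroup V] [Module (ZMod 2) V] {B : BilinForm (ZMod 2) V}
  (hA : B.IsAlt) [Finite V] (hB : B.Nondegenerate) {k : ℕ}
  (hfr : Module.finrank (ZMod 2) V = 2 * (k + 1))
  {Ω : Type*} [MulAction (Symp.Sp B) Ω]

/-- Whether the transvection along a nonzero vector fixes the point. -/
noncomputable def fixFun (ω : Ω) (x : V) : ZMod 2 := by
  classical exact if x = 0 then 0 else if T hA x • ω = ω then 1 else 0

theorem fixFun_of_fix {ω : Ω} {x : V} (hx : x ≠ 0) (h : T hA x • ω = ω) :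
    fixFun hA ω x = 1 := by simp [fixFun, hx, h]

theorem fixFun_of_moved {ω : Ω} {x : V} (h : T hA x • ω ≠ ω) : fixFun hA ω x = 0 := by
  simp [fixFun, h]

omit [Finite V] in
theorem T_smul_T_smul (v : V) (x : Ω) : T hA v • T hA v • x = x := by
  rw [← mul_smul, T_mul_self, one_smul]

theorem fixFun_zero (ω : Ω) : fixFun hA ω 0 = 0 := by simp [fixFun]

omit [Finite V] in
theorem fixFun_invariant {ω : Ω} {g : Symp.Sp B} (hg : g • ω = ω) (x : V) :
    fixFun hA ω ((g : V ≃ₗ[ZMod 2] V) x) = fixFun hA ω x := by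
  classical
  rcases eq_or_ne x 0 with rfl | hx
  · rw [map_zero]
  have h1 : T hA ((g : V ≃ₗ[ZMod 2] V) x) • ω = ω ↔ T hA x • ω = ω := by
    conv_lhs => rw [← hg, ← mul_smul, ← mul_T, mul_smul, smul_left_cancel_iff]
  simp only [fixFun, if_neg hx, if_neg ((g : V ≃ₗ[ZMod 2] V).map_ne_zero_iff.2 hx), h1]

include hA in
omit [Finite V] in
theorem T_add_eq {u v : V} (huv : B u v = 1) :
    T hA (u + v) = T hA v * T hA u * T hA v ∧ T hA (u + v) = T hA u * T hA v * T hA u := by
  constructor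
  · have h := conj_T hA (T hA v) u
    rw [inv_eq_of_mul_eq_one_right (T_mul_self hA v), T_apply, huv, one_smul] at h
    exact h.symm
  · have h := conj_T hA (T hA u) v
    rw [inv_eq_of_mul_eq_one_right (T_mul_self hA u), T_apply, bil_comm hA u v, huv, one_smul,
      add_comm] at h
    exact h.symm

variable [Finite Ω] [MulAction.IsPretransitive (Symp.Sp B) Ω]

include hA hB hfr in
theorem fixFun_hyperbolic (hk : 2 ≤ k) (hΩ : 1 < Nat.card Ω)
    (hshort : ∀ (v : V) (ω : Ω), T hA v • ω ≠ ω → Short hA v ω)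
    (hbig : ∀ u v : V, B u v = 1 → ∃ M, Nat.card {x : Ω // T hA v • x ≠ x} = 2 * M ∧
      ∀ X : Set Ω, X.Nonempty → (∀ x ∈ X, T hA v • x ≠ x) →
        (∀ z, B u z = 0 → B v z = 0 → ∀ x ∈ X, T hA z • x ∈ X) → M ≤ Nat.card X)
    (ω : Ω) {u v : V} (huv : B u v = 1) :
    fixFun hA ω u + fixFun hA ω v + fixFun hA ω (u + v) = 1 := by
  classical
  have : FiniteDimensional (ZMod 2) V := Module.Finite.of_finite
  have hne1 : ∀ {a b : V}, B a b = 1 → a ≠ 0 := fun {a b} h =>
    Classical.Symp.ne_zero_of_apply_ne_zero (B := B) (v := b) (by rw [h]; exact one_ne_zero)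
  have hne2 : ∀ {a b : V}, B a b = 1 → b ≠ 0 := fun {a b} h =>
    hne1 ((bil_comm hA a b).trans h)
  -- a pair for which every point moved by `v` is moved by `u` would make all transvections move
  have hdicho : ∀ a b : V, B a b = 1 →
      (∀ x : Ω, T hA b • x ≠ x → T hA a • x ≠ x) ∨
      (∀ x : Ω, T hA b • x ≠ x → T hA a • x = x ∨ T hA (a + b) • x = x) := by
    intro a b hab
    by_contra hcon
    push Not at hcon
    obtain ⟨⟨x₁, hx₁, hx₁'⟩, ⟨x₂, hx₂, hx₂', hx₂''⟩⟩ := hcon
    obtain ⟨M, hM, hX⟩ := hbig a b hab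
    obtain ⟨e1, e2⟩ := T_add_eq hA hab
    have hinv : ∀ c : V, ∀ z, B c z = 0 → ∀ x : Ω,
        (T hA c • T hA z • x = T hA z • x ↔ T hA c • x = x) := fun c z hz x => by
      rw [← mul_smul, commute_T hA hz, mul_smul, smul_left_cancel_iff]
    have hab' : ∀ z, B a z = 0 → B b z = 0 → B (a + b) z = 0 := fun z h1 h2 => by
      rw [map_add, LinearMap.add_apply, h1, h2, add_zero]
    let X : Set Ω := {x | T hA b • x ≠ x ∧ T hA a • x = x}
    let Y : Set Ω := {x | T hA b • x ≠ x ∧ T hA (a + b) • x = x}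
    let Z : Set Ω := {x | T hA b • x ≠ x ∧ T hA a • x ≠ x ∧ T hA (a + b) • x ≠ x}
    have hX1 : M ≤ Nat.card X := hX X ⟨x₁, hx₁, hx₁'⟩ (fun x hx => hx.1) fun z h1 h2 x hx =>
      ⟨fun e => hx.1 ((hinv b z h2 x).1 e), (hinv a z h1 x).2 hx.2⟩
    have hY1 : M ≤ Nat.card Y := hX Y ⟨T hA b • x₁, ?_, ?_⟩ (fun x hx => hx.1) fun z h1 h2 x hx =>
      ⟨fun e => hx.1 ((hinv b z h2 x).1 e), (hinv (a + b) z (hab' z h1 h2) x).2 hx.2⟩
    rotate_left
    · exact fun e => hx₁ (MulAction.injective _ e)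
    · rw [← mul_smul, e1, mul_assoc, T_mul_self, mul_one, mul_smul, hx₁']
    have hZ1 : M ≤ Nat.card Z := hX Z ⟨x₂, hx₂, hx₂', hx₂''⟩ (fun x hx => hx.1)
      fun z h1 h2 x hx => ⟨fun e => hx.1 ((hinv b z h2 x).1 e),
        fun e => hx.2.1 ((hinv a z h1 x).1 e),
        fun e => hx.2.2 ((hinv (a + b) z (hab' z h1 h2) x).1 e)⟩
    have hXY : Disjoint X Y := Set.disjoint_left.2 fun x hx hy => hx.1 (by
      have h3 : (T hA a * T hA b * T hA a) • x = x := by rw [← e2]; exact hy.2
      rw [mul_smul, hx.2, mul_smul] at h3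
      have h4 := congrArg (T hA a • ·) h3
      simp only [T_smul_T_smul] at h4
      exact h4.trans hx.2)
    have hXYZ : Disjoint (X ∪ Y) Z := Set.disjoint_left.2 fun x hx hz =>
      hx.elim (fun h => hz.2.1 h.2) (fun h => hz.2.2 h.2)
    have hle : Nat.card X + Nat.card Y + Nat.card Z ≤ Nat.card {x : Ω // T hA b • x ≠ x} := by
      rw [Nat.card_coe_set_eq, Nat.card_coe_set_eq, Nat.card_coe_set_eq,
        ← Set.ncard_union_eq hXY, ← Set.ncard_union_eq hXYZ]
      exact Set.ncard_le_ncard (t := {x : Ω | T hA b • x ≠ x})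
        (fun x hx => hx.elim (fun h => h.elim (·.1) (·.1)) (·.1))
    obtain ⟨x₀, hx₀⟩ := exists_moved hA hB hΩ (hne2 hab)
    have : 0 < Nat.card {x : Ω // T hA b • x ≠ x} :=
      Nat.card_pos_iff.2 ⟨⟨⟨x₀, hx₀⟩⟩, inferInstance⟩
    omega
  have hZ : ∀ a b : V, B a b = 1 →
      ∀ x : Ω, T hA b • x ≠ x → T hA a • x = x ∨ T hA (a + b) • x = x := by
    intro a b hab
    refine (hdicho a b hab).resolve_left fun h => ?_
    have hall : ∀ a' b' : V, B a' b' = 1 → ∀ x : Ω, T hA b' • x ≠ x → T hA a' • x ≠ x := by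
      intro a' b' hab' x hx
      obtain ⟨g, -, hga, hgb⟩ := Classical.Symp.sp_transitive_hyperbolic hA hB hab hab'
      obtain ⟨y, rfl⟩ := MulAction.surjective g x
      rw [← hgb, ← mul_smul, ← mul_T, mul_smul] at hx
      rw [← hga, ← mul_smul, ← mul_T, mul_smul]
      exact fun e => h y (fun e' => hx (by rw [e'])) (MulAction.injective g e)
    obtain ⟨c, hc0, hc⟩ := exists_fixed_transvection hA hB hfr hk hshort ω
    obtain ⟨d, hd0, hd⟩ := exists_moved_transvection hA hB hΩ ω
    obtain ⟨p, -, hp⟩ := Classical.Symp.exists_partner (Classical.Symp.nondeg_top hB)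
      (Submodule.mem_top (x := c)) hc0
    obtain ⟨q, -, hq⟩ := Classical.Symp.exists_partner (Classical.Symp.nondeg_top hB)
      (Submodule.mem_top (x := d)) hd0
    obtain ⟨z, -, h1, h2⟩ := Classical.Symp.exists_apply_ne_zero_both (B := B) (U := ⊤)
      (u := c) (w := d) ⟨p, trivial, by simp [hp]⟩ ⟨q, trivial, by simp [hq]⟩
    exact hall c z ((zmod_ne_zero_iff _).1 h1) ω
      (hall z d ((bil_comm hA d z).trans ((zmod_ne_zero_iff _).1 h2)) ω hd) hc
  have hvu : u + v ≠ 0 := by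
    intro h
    have h2 := congrArg (B u) h
    rw [map_add, hA u, huv, zero_add, map_zero] at h2
    exact one_ne_zero h2
  obtain ⟨e1, e2⟩ := T_add_eq hA huv
  rcases eq_or_ne (T hA v • ω) ω with hv | hv
  · have hiff : T hA (u + v) • ω = ω ↔ T hA u • ω = ω := by
      rw [e1, mul_smul, hv, mul_smul]
      conv_lhs => arg 2; rw [← hv]
      rw [smul_left_cancel_iff]
    rw [fixFun_of_fix hA (hne2 huv) hv]
    rcases eq_or_ne (T hA u • ω) ω with hu | hu
    · rw [fixFun_of_fix hA (hne1 huv) hu, fixFun_of_fix hA hvu (hiff.2 hu)]; rfl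
    · rw [fixFun_of_moved hA hu, fixFun_of_moved hA (fun e => hu (hiff.1 e))]; rfl
  · rw [fixFun_of_moved hA hv]
    rcases hZ u v huv ω hv with hu | hu
    · rw [fixFun_of_fix hA (hne1 huv) hu, fixFun_of_moved hA (fun e => hv ?_)]; · rfl
      have h3 : (T hA u * T hA v * T hA u) • ω = ω := by rw [← e2]; exact e
      rw [mul_smul, hu, mul_smul] at h3
      have h4 := congrArg (T hA u • ·) h3
      simp only [T_smul_T_smul] at h4
      exact h4.trans hu
    · rw [fixFun_of_fix hA hvu hu, fixFun_of_moved hA (fun e => hv ?_)]; · rfl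
      have h3 : (T hA u * T hA v * T hA u) • ω = ω := by rw [← e2]; exact hu
      rw [mul_smul, e, mul_smul] at h3
      have h4 := congrArg (T hA u • ·) h3
      simp only [T_smul_T_smul] at h4
      exact h4.trans e

omit [MulAction (Symp.Sp B) Ω] [Finite Ω] [MulAction.IsPretransitive (Symp.Sp B) Ω] in
include hA hB hfr in
theorem exists_defect (g : V → ZMod 2) (hg : ∀ u v, B u v = 1 → g u + g v + g (u + v) = 1)
    (hk : 1 ≤ k) :
    ∃ c : ZMod 2, ∀ x y, x ≠ 0 → y ≠ 0 → x ≠ y → g (x + y) + g x + g y + B x y =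
      (B x y + 1) * c := by
  have : FiniteDimensional (ZMod 2) V := Module.Finite.of_finite
  set δ : V → V → ZMod 2 := fun x y => g (x + y) + g x + g y with hδ
  have hsymm : ∀ x y, δ x y = δ y x := fun x y => by
    simp only [hδ, add_comm y x]; abel
  have hkey : ∀ u v z, B u v = 0 → B u z = 1 → B v z = 0 → δ u v = δ v z := by
    intro u v z huv huz hvz
    have h1 := hg u (v + z) (by rw [map_add, huv, huz, zero_add])
    have h2 := hg (u + v) z (by rw [map_add, LinearMap.add_apply, huz, hvz, add_zero])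
    rw [add_assoc u v z] at h2
    simp only [hδ]
    have e : ∀ a b c d e f : ZMod 2, a + f + e = 1 → b + c + e = 1 → b + a + d = f + d + c := by
      decide
    exact e _ _ _ _ _ _ h1 h2
  have hconst : ∀ v u u', v ≠ 0 → u ≠ 0 → u ≠ v → B v u = 0 → u' ≠ 0 → u' ≠ v → B v u' = 0 →
      δ v u = δ v u' := by
    intro v u u' hv hu hu1 hu2 hu' hu1' hu2'
    have step : ∀ a b, B v a = 0 → B v b = 0 → B a b = 1 → δ v a = δ v b := fun a b ha hb hab => by
      rw [hsymm v a]
      exact hkey a v b ((bil_comm hA v a).trans ha) hab hb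
    have hns : ∀ w, w ≠ 0 → w ≠ v → w ∉ Submodule.span (ZMod 2) {v} := by
      intro w h0 h1 hw
      obtain ⟨c, rfl⟩ := Submodule.mem_span_singleton.1 hw
      rcases zmod_two_cases c with rfl | rfl
      · exact h0 (zero_smul _ _)
      · exact h1 (one_smul _ _)
    obtain ⟨a, ha, hua⟩ := Classical.Symp.exists_perp_apply_ne_zero hA hB (hns u hu hu1)
    obtain ⟨b, hb, hub⟩ := Classical.Symp.exists_perp_apply_ne_zero hA hB (hns u' hu' hu1')
    obtain ⟨z, hz, h1, h2⟩ := Classical.Symp.exists_apply_ne_zero_both (B := B)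
      (U := LinearMap.ker (B v)) (u := u) (w := u') ⟨a, ha, hua⟩ ⟨b, hb, hub⟩
    rw [step u z hu2 hz ((zmod_ne_zero_iff _).1 h1),
      step u' z hu2' hz ((zmod_ne_zero_iff _).1 h2)]
  have : Nontrivial V := Module.nontrivial_of_finrank_pos (R := ZMod 2) (by omega)
  obtain ⟨v₀, hv₀⟩ := exists_ne (0 : V)
  obtain ⟨w₀, hw₀, hw₀0, hw₀v⟩ : ∃ w, B v₀ w = 0 ∧ w ≠ 0 ∧ w ≠ v₀ := by
    obtain ⟨z, hz, hzS⟩ := Classical.Symp.exists_perp_notMem hA hB (Submodule.span (ZMod 2) {v₀})
      (by rw [finrank_span_singleton hv₀]; omega)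
    exact ⟨z, hz v₀ (Submodule.mem_span_singleton_self _),
      fun h => hzS (h ▸ Submodule.zero_mem _),
      fun h => hzS (h ▸ Submodule.mem_span_singleton_self _)⟩
  refine ⟨δ v₀ w₀, fun x y hx hy hxy => ?_⟩
  rcases zmod_two_cases (B x y) with hB0 | hB1
  · rw [hB0, zero_add, one_mul, add_zero]
    show δ x y = _
    by_cases hx0 : x = v₀
    · subst hx0
      exact hconst x y w₀ hx hy (Ne.symm hxy) hB0 hw₀0 hw₀v hw₀
    rcases zmod_two_cases (B v₀ x) with h0 | h1
    · rw [hconst x y v₀ hx hy (Ne.symm hxy) hB0 hv₀ (Ne.symm hx0) ((bil_comm hA v₀ x).trans h0),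
        hsymm]
      exact hconst v₀ x w₀ hv₀ hx hx0 h0 hw₀0 hw₀v hw₀
    · have hx1 : B x v₀ = 1 := (bil_comm hA v₀ x).trans h1
      have hd := finrank_compl hA hB hfr h1
      have : Nontrivial (compl B v₀ x) := Module.nontrivial_of_finrank_pos (R := ZMod 2) (by omega)
      obtain ⟨⟨z, hz⟩, hz0⟩ := exists_ne (0 : compl B v₀ x)
      obtain ⟨hz1, hz2⟩ := mem_compl.1 hz
      have hz0' : z ≠ 0 := fun h => hz0 (Subtype.ext h)
      have hzx : z ≠ x := fun h => by rw [h] at hz1; rw [hz1] at h1; exact zero_ne_one h1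
      have hzv : z ≠ v₀ := fun h => by rw [h] at hz2; rw [hz2] at hx1; exact zero_ne_one hx1
      rw [hconst x y z hx hy (Ne.symm hxy) hB0 hz0' hzx hz2, hsymm x z,
        hconst z x v₀ hz0' hx (Ne.symm hzx) ((bil_comm hA x z).trans hz2) hv₀ (Ne.symm hzv)
          ((bil_comm hA v₀ z).trans hz1), hsymm z v₀,
        hconst v₀ z w₀ hv₀ hz0' hzv hz1 hw₀0 hw₀v hw₀]
  · have h := hg x y hB1
    rw [hB1, show (1 : ZMod 2) + 1 = 0 from rfl, zero_mul]
    have e : ∀ a b c : ZMod 2, a + b + c = 1 → c + a + b + 1 = 0 := by decide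
    exact e _ _ _ h

include hA hB hfr in
theorem false_of_single (hk : 2 ≤ k) (hΩ : 1 < Nat.card Ω) (hN : Nat.card Ω < Mm (k + 1))
    (hshort : ∀ (v : V) (ω : Ω), T hA v • ω ≠ ω → Short hA v ω)
    (hbig : ∀ u v : V, B u v = 1 → ∃ M, Nat.card {x : Ω // T hA v • x ≠ x} = 2 * M ∧
      ∀ X : Set Ω, X.Nonempty → (∀ x ∈ X, T hA v • x ≠ x) →
        (∀ z, B u z = 0 → B v z = 0 → ∀ x ∈ X, T hA z • x ∈ X) → M ≤ Nat.card X) : False := by
  classical
  have : FiniteDimensional (ZMod 2) V := Module.Finite.of_finite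
  obtain ⟨ω⟩ := (Nat.card_pos_iff.1 (by omega : 0 < Nat.card Ω)).1
  set g := fixFun hA ω with hgdef
  have hg0 : g 0 = 0 := fixFun_zero hA ω
  obtain ⟨c, hc⟩ := exists_defect hA hB hfr g
    (fun u v huv => fixFun_hyperbolic hA hB hfr hk hΩ hshort hbig ω huv) (by omega)
  rcases zmod_two_cases c with rfl | rfl
  · -- a quadratic function
    have hQ : IsQF B g := by
      intro x y
      rcases eq_or_ne x 0 with rfl | hx
      · simp [hg0]
      rcases eq_or_ne y 0 with rfl | hy
      · simp [hg0]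
      rcases eq_or_ne x y with rfl | hxy
      · rw [add_self_vec, hg0, hA x, add_zero, CharTwo.add_self_eq_zero]
      have := hc x y hx hy hxy
      rw [mul_zero] at this
      have e : ∀ a b c d : ZMod 2, a + b + c + d = 0 → a = b + c + d := by decide
      exact e _ _ _ _ this
    have h1 := Mm_le_zeros hA hB (k := k + 1) (by omega) hfr hQ
    have h2 : zeros g ≤ Nat.card Ω := by
      refine Nat.card_le_card_of_injective (fun z : {z : V // g z = 0} => T hA z.1 • ω)
        fun a b e => Subtype.ext (IsQF.shift_injective hA hB (Q := g) ?_)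
      have hfix : (T hA b.1 * T hA a.1) • ω = ω := by
        rw [mul_smul, show T hA a.1 • ω = T hA b.1 • ω from e, ← mul_smul, T_mul_self, one_smul]
      funext w
      rw [← IsQF.trQ_of_zero a.2, ← IsQF.trQ_of_zero b.2, ← hQ.trQ_eq, ← hQ.trQ_eq, ← T_apply hA,
        ← T_apply hA]
      show fixFun hA ω _ = fixFun hA ω _
      rw [← fixFun_invariant hA hfix ((T hA a.1 : V ≃ₗ[ZMod 2] V) w)]
      congr 1
      rw [← LinearEquiv.mul_apply, ← Subgroup.coe_mul, mul_assoc, T_mul_self, mul_one]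
    omega
  · -- an affine function
    let ℓ : V → ZMod 2 := fun x => if x = 0 then 0 else g x + 1
    have hadd : ∀ x y, ℓ (x + y) = ℓ x + ℓ y := by
      intro x y
      rcases eq_or_ne x 0 with rfl | hx
      · simp [ℓ]
      rcases eq_or_ne y 0 with rfl | hy
      · simp [ℓ]
      rcases eq_or_ne x y with rfl | hxy
      · rw [add_self_vec, CharTwo.add_self_eq_zero]; simp [ℓ]
      have hsum : x + y ≠ 0 := fun h => hxy (by rw [eq_neg_of_add_eq_zero_left h, neg_vec])
      simp only [ℓ, if_neg hx, if_neg hy, if_neg hsum]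
      have := hc x y hx hy hxy
      have e : ∀ a b c d : ZMod 2, a + b + c + d = (d + 1) * 1 → a + 1 = b + 1 + (c + 1) := by
        decide
      exact e _ _ _ _ this
    let φ : V →+ ZMod 2 := AddMonoidHom.mk' ℓ hadd
    set c₀ := (LinearMap.BilinForm.toDual B hB).symm (φ.toZModLinearMap 2)
    have hc₀ : ∀ x, B c₀ x = ℓ x := fun x => by
      rw [LinearMap.BilinForm.apply_toDual_symm_apply]
      rfl
    by_cases hc0 : c₀ = 0
    · obtain ⟨d, hd0, hd⟩ := exists_moved_transvection hA hB hΩ ω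
      have := hc₀ d
      rw [hc0, map_zero, LinearMap.zero_apply] at this
      simp only [ℓ, if_neg hd0, hgdef, fixFun_of_moved hA hd, zero_add] at this
      exact zero_ne_one this
    · have hfix : ∀ h : Symp.Sp B, h • ω = ω → (h : V ≃ₗ[ZMod 2] V) c₀ = c₀ := by
        intro h hh
        rw [← sub_eq_zero]
        refine hB.1 _ fun y => ?_
        obtain ⟨x, rfl⟩ := (h : V ≃ₗ[ZMod 2] V).surjective y
        rw [map_sub, LinearMap.sub_apply, show B ((h : V ≃ₗ[ZMod 2] V) c₀)
          ((h : V ≃ₗ[ZMod 2] V) x) = B c₀ x from h.2 c₀ x, hc₀, hc₀]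
        have : ℓ ((h : V ≃ₗ[ZMod 2] V) x) = ℓ x := by
          simp only [ℓ, LinearEquiv.map_eq_zero_iff, hgdef, fixFun_invariant hA hh]
        rw [this, sub_self]
      have := le_card_of_stab_fix_vec hA hB hfr hc0 hfix
      have h3 : Mm (k + 1) + 1 ≤ 4 ^ (k + 1) := by
        rw [← Mp_add_Mm (show 1 ≤ k + 1 by omega)]
        have := Mm_pos (show 1 ≤ k + 1 by omega)
        have := Mm_lt_Mp (show 1 ≤ k + 1 by omega)
        omega
      omega

end CfsgLib.LocalEvenB.MinIndexSp
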